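import Groth.Prelude.Def_Algz
import Groth.Agent.Coherent.Existence.Completion

/-!
Morphisms out of objects of Coh(X, I): transition maps are universal, pro-morphisms are morphisms.
-/

universe u

open CategoryTheory CategoryTheory.Limits AlgebraicGeometry Opposite

noncomputable section

namespace Groth.Agent.AlgzLib

variable {A : Type u} [CommRing A] {I : Ideal A} {X : Scheme.{u}} [X.Over (Spec (CommRingCat.of A))]
  {F G : ℕᵒᵖ ⥤ X.Modules}

theorem existsUnique_fac (hF : Formal.IsCohFormal I F) {n : ℕ} {T : X.Modules}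
    (hT : Formal.KilledBy (I ^ (n + 1)) T) :
    ∀ {k : ℕ} (h : n ≤ k), Epi (F.map (homOfLE h).op) ∧
      ∀ ψ : F.obj (op k) ⟶ T, ∃ φ : F.obj (op n) ⟶ T, F.map (homOfLE h).op ≫ φ = ψ := by
  intro k h
  induction k, h using Nat.le_induction with
  | base =>
    rw [show (homOfLE (le_refl n)).op = 𝟙 (op n) from rfl, F.map_id]
    exact ⟨inferInstance, fun ψ => ⟨ψ, Category.id_comp ψ⟩⟩
  | succ k h ih =>
    obtain ⟨hepi, hfac⟩ := ih
    obtain ⟨w, hiso⟩ := hF.2.2 k
    have e : F.map (homOfLE (h.trans (Nat.le_succ k))).op =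
        F.map (homOfLE (Nat.le_succ k)).op ≫ F.map (homOfLE h).op := by
      rw [← F.map_comp]; rfl
    have hs : F.map (homOfLE (Nat.le_succ k)).op = cokernel.π _ ≫ cokernel.desc _ _ w :=
      (cokernel.π_desc _ _ _).symm
    have hinv : F.map (homOfLE (Nat.le_succ k)).op ≫ inv (cokernel.desc _ _ w) = cokernel.π _ := by
      rw [IsIso.comp_inv_eq, cokernel.π_desc]
    have : Epi (F.map (homOfLE (Nat.le_succ k)).op) := by
      have he := hiso.epi_of_iso
      rw [hs]; exact epi_comp' inferInstance he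
    refine ⟨e ▸ epi_comp _ _, fun ψ => ?_⟩
    have hψ : Formal.smulFamily (I ^ (k + 1)) (F.obj (op (k + 1))) ≫ ψ = 0 := by
      refine Sigma.hom_ext _ _ fun a => ?_
      rw [← Category.assoc, Formal.smulFamily, Sigma.ι_desc, comp_zero, Coherent.Serre.smulMod_natural,
        hT a (Ideal.pow_le_pow_right (Nat.succ_le_succ h) a.2), comp_zero]
    obtain ⟨φ, hφ⟩ := hfac (inv (cokernel.desc _ _ w) ≫ cokernel.desc _ ψ hψ)
    refine ⟨φ, ?_⟩
    rw [e, Category.assoc, hφ, ← Category.assoc, hinv, cokernel.π_desc]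

theorem epi_map (hF : Formal.IsCohFormal I F) {n k : ℕ} (h : n ≤ k) : Epi (F.map (homOfLE h).op) :=
  (existsUnique_fac hF (hF.2.1 n) h).1

theorem existsUnique_hom_of_reindex_hom (hF : Formal.IsCohFormal I F) (hG : Formal.IsCohFormal I G)
    (m : ℕ → ℕ) (hm : Monotone m) (hle : ∀ n, n ≤ m n) (π : DerCA.reindex F hm ⟶ F)
    (hπ : ∀ n : ℕ, π.app (op n) = F.map (homOfLE (hle n)).op) (α : DerCA.reindex F hm ⟶ G) :
    ∃! β : F ⟶ G, π ≫ β = α := by
  have he : ∀ j : ℕᵒᵖ, Epi (π.app j) := fun ⟨n⟩ => hπ n ▸ epi_map hF (hle n)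
  choose φ hφ using fun j : ℕᵒᵖ => (existsUnique_fac hF (hG.2.1 j.unop) (hle j.unop)).2 (α.app j)
  have hφ' : ∀ j : ℕᵒᵖ, π.app j ≫ φ j = α.app j := fun ⟨n⟩ => hπ n ▸ hφ (op n)
  refine ⟨⟨φ, fun j j' t => ?_⟩, NatTrans.ext (funext hφ'), fun β hβ => NatTrans.ext (funext fun j => ?_)⟩
  · have := he j
    rw [← cancel_epi (π.app j), ← Category.assoc, ← π.naturality, Category.assoc, hφ', α.naturality,
      ← Category.assoc, hφ']
  · have := he j
    rw [← cancel_epi (π.app j), hφ' j]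
    exact congrArg (fun s => NatTrans.app s j) hβ

theorem nonempty_iso_of_isProIsomorphic (hF : Formal.IsCohFormal I F) (hG : Formal.IsCohFormal I G)
    (h : Algz.IsProIsomorphic F G) : Nonempty (F ≅ G) := by
  obtain ⟨m, hm, hle, a, ha⟩ := h
  let π : DerCA.reindex F hm ⟶ F :=
    { app := fun j => F.map (homOfLE (hle j.unop)).op
      naturality := fun j j' t => by
        show F.map _ ≫ F.map _ = F.map _ ≫ F.map _
        exact (F.map_comp _ _).symm.trans ((congrArg F.map (Subsingleton.elim _ _)).trans (F.map_comp _ _)) }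
  obtain ⟨β, hβ, -⟩ := existsUnique_hom_of_reindex_hom hF hG m hm hle π (fun n => rfl) a
  have happ : ∀ j, π.app j ≫ β.app j = a.app j := fun j => congrArg (fun s => NatTrans.app s j) hβ
  suffices hiso : ∀ j, IsIso (β.app j) by
    have := NatIso.isIso_of_isIso_app β
    exact ⟨asIso β⟩
  rintro ⟨n⟩
  obtain ⟨k, hnk, b, hb1, hb2⟩ := ha n
  obtain ⟨c, hc⟩ := (existsUnique_fac hG (hF.2.1 n) hnk).2 (b ≫ π.app (op n))
  refine ⟨c, ?_, ?_⟩
  · have := epi_map hF hnk
    have : Epi (π.app (op k)) := epi_map hF (hle k)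
    refine (cancel_epi (F.map (homOfLE hnk).op)).1 ((cancel_epi (π.app (op k))).1 ?_)
    calc π.app (op k) ≫ F.map (homOfLE hnk).op ≫ β.app (op n) ≫ c
        = π.app (op k) ≫ β.app (op k) ≫ G.map (homOfLE hnk).op ≫ c :=
          congrArg (π.app (op k) ≫ ·) (((Category.assoc _ _ _).symm.trans
            (congrArg (· ≫ c) (β.naturality (homOfLE hnk).op))).trans (Category.assoc _ _ _))
      _ = (π.app (op k) ≫ β.app (op k)) ≫ b ≫ π.app (op n) :=
          (Category.assoc _ _ _).symm.trans (congrArg _ hc)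
      _ = a.app (op k) ≫ b ≫ π.app (op n) := congrArg (· ≫ b ≫ π.app (op n)) (happ _)
      _ = (a.app (op k) ≫ b) ≫ π.app (op n) := (Category.assoc _ _ _).symm
      _ = ARSys.tr (DerCA.reindex F hm) hnk ≫ π.app (op n) := congrArg (· ≫ π.app (op n)) hb1
      _ = π.app (op k) ≫ F.map (homOfLE hnk).op := π.naturality _
      _ = π.app (op k) ≫ F.map (homOfLE hnk).op ≫ 𝟙 _ := congrArg _ (Category.comp_id _).symm
  · have := epi_map hG hnk
    rw [← cancel_epi (G.map (homOfLE hnk).op), ← Category.assoc, hc, Category.assoc, happ, hb2,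
      Category.comp_id]

end Groth.Agent.AlgzLib
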