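import Mathlib.RingTheory.Regular.RegularSequence
import Mathlib.RingTheory.Flat.EquationalCriterion
import Mathlib.RingTheory.Nakayama
import Mathlib.RingTheory.Noetherian.Basic

/-!
# Independence of monomials on modules: regular sequences and flat modules
-/

set_option autoImplicit false

universe u v

open Submodule

namespace Groth.Agent.AlgzLib

/-- Index set of the monomials of degree `k` in `d` variables. -/
inductive Mon : ℕ → ℕ → Type
  | zero (d : ℕ) : Mon d 0
  | init {d k : ℕ} : Mon d (k + 1) → Mon (d + 1) (k + 1)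
  | last {d k : ℕ} : Mon (d + 1) k → Mon (d + 1) (k + 1)

/-- A monomial in the first `d` variables, or the last variable times a monomial. -/
def Mon.equiv (d k : ℕ) : Mon d (k + 1) ⊕ Mon (d + 1) k ≃ Mon (d + 1) (k + 1) where
  toFun := Sum.elim Mon.init Mon.last
  invFun
    | .init e => Sum.inl e
    | .last e => Sum.inr e
  left_inv := by rintro (e | e) <;> rfl
  right_inv := by rintro (e | e | e) <;> rfl

instance monFintype : ∀ d k, Fintype (Mon d k)
  | d, 0 => ⟨{Mon.zero d}, fun e => by cases e; exact Finset.mem_singleton_self _⟩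
  | 0, _ + 1 => ⟨∅, fun e => nomatch e⟩
  | d + 1, k + 1 =>
    haveI := monFintype d (k + 1)
    haveI := monFintype (d + 1) k
    Fintype.ofEquiv _ (Mon.equiv d k)
termination_by d k => (d, k)

theorem sum_mon_succ {M : Type*} [AddCommMonoid M] (d k : ℕ) (g : Mon (d + 1) (k + 1) → M) :
    ∑ e, g e = ∑ e, g (Mon.init e) + ∑ e, g (Mon.last e) := by
  rw [← (Mon.equiv d k).sum_comp, Fintype.sum_sum_type]
  rfl

theorem sum_mon_zero {M : Type*} [AddCommMonoid M] (d : ℕ) (g : Mon d 0 → M) : ∑ e, g e = g (Mon.zero d) :=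
  Finset.sum_eq_single_of_mem _ (Finset.mem_univ _) fun i _ hi => absurd (by cases i; rfl) hi

variable {A : Type u} [CommRing A]

/-- The monomial attached to an index. -/
def monVal : ∀ {d k : ℕ}, (Fin d → A) → Mon d k → A
  | _, _, _, .zero _ => 1
  | _, _, f, .init e => monVal (Fin.init f) e
  | _, _, f, .last e => f (Fin.last _) * monVal f e

theorem map_monVal {B : Type v} [CommRing B] (φ : A →+* B) {d k : ℕ} (f : Fin d → A) (e : Mon d k) :
    φ (monVal f e) = monVal (fun i => φ (f i)) e := by
  induction e with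
  | zero d => exact map_one φ
  | init e ih => exact ih (Fin.init f)
  | last e ih => exact (map_mul φ _ _).trans (congrArg (_ * ·) (ih f))

theorem span_range_last (d : ℕ) (f : Fin (d + 1) → A) :
    Ideal.span (Set.range f) = Ideal.span (Set.range (Fin.init f)) ⊔ Ideal.span {f (Fin.last d)} := by
  rw [← Ideal.span_union]
  congr 1
  ext x
  constructor
  · rintro ⟨i, rfl⟩
    refine Fin.lastCases (Or.inr rfl) (fun i => Or.inl ⟨i, rfl⟩) i
  · rintro (⟨i, rfl⟩ | rfl) <;> exact ⟨_, rfl⟩

theorem pow_succ_le_sup (Q G P : Ideal A) (hP : P = Q ⊔ G) : ∀ k, P ^ (k + 1) ≤ Q ^ (k + 1) ⊔ G * P ^ k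
  | 0 => by simp [hP]
  | k + 1 => by
    rw [pow_succ' P (k + 1)]
    nth_rw 1 [hP]
    rw [Ideal.sup_mul]
    refine sup_le ?_ le_sup_right
    refine (Ideal.mul_mono_right (pow_succ_le_sup Q G P hP k)).trans ?_
    rw [Ideal.mul_sup, ← pow_succ' Q, ← mul_assoc, mul_comm Q G, mul_assoc]
    exact sup_le_sup_left (Ideal.mul_mono_right ((Ideal.mul_mono_left (hP ▸ le_sup_left)).trans (pow_succ' P k).ge)) _

theorem span_monVal : ∀ (d k : ℕ) (f : Fin d → A),
    Ideal.span (Set.range fun e : Mon d k => monVal f e) = Ideal.span (Set.range f) ^ k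
  | d, 0, f => by
    rw [pow_zero, Ideal.one_eq_top, Ideal.eq_top_iff_one]
    exact Ideal.subset_span ⟨Mon.zero d, rfl⟩
  | 0, k + 1, f => by
    haveI : IsEmpty (Mon 0 (k + 1)) := ⟨fun e => nomatch e⟩
    rw [Set.range_eq_empty, Set.range_eq_empty f, Ideal.span_empty, Ideal.bot_pow (Nat.succ_ne_zero k)]
  | d + 1, k + 1, f => by
    have e : (Set.range fun e : Mon (d + 1) (k + 1) => monVal f e) =
        (Set.range fun e : Mon d (k + 1) => monVal (Fin.init f) e) ∪
        (fun x => f (Fin.last d) * x) '' Set.range (fun e : Mon (d + 1) k => monVal f e) := by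
      ext x
      constructor
      · rintro ⟨e, rfl⟩
        cases e with
        | init e => exact Or.inl ⟨e, rfl⟩
        | last e => exact Or.inr ⟨_, ⟨e, rfl⟩, rfl⟩
      · rintro (⟨e, rfl⟩ | ⟨_, ⟨e, rfl⟩, rfl⟩)
        · exact ⟨Mon.init e, rfl⟩
        · exact ⟨Mon.last e, rfl⟩
    have e' : Ideal.span ((fun x => f (Fin.last d) * x) '' Set.range (fun e : Mon (d + 1) k => monVal f e)) =
        Ideal.span {f (Fin.last d)} * Ideal.span (Set.range f) ^ k := by
      rw [← span_monVal (d + 1) k f, Ideal.span_mul_span', Set.singleton_mul]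
    rw [e, Ideal.span_union, e', span_monVal d (k + 1) (Fin.init f)]
    have hP := span_range_last d f
    refine le_antisymm (sup_le (Ideal.pow_right_mono (hP.ge.trans' le_sup_left) _)
      ((Ideal.mul_mono_left (hP.ge.trans' le_sup_right)).trans (pow_succ' _ k).ge)) (pow_succ_le_sup _ _ _ hP k)
termination_by d k => (d, k)

theorem monVal_mem {d k : ℕ} (f : Fin d → A) (e : Mon d k) : monVal f e ∈ Ideal.span (Set.range f) ^ k :=
  span_monVal d k f ▸ Ideal.subset_span ⟨e, rfl⟩

theorem monVal_step {d k : ℕ} (f : Fin d → A) (e : Mon d (k + 1)) :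
    ∃ (i : Fin d) (c : A), c ∈ Ideal.span (Set.range f) ^ k ∧ monVal f e = f i * c := by
  induction d with
  | zero => nomatch e
  | succ d ih =>
    cases e with
    | init e =>
      obtain ⟨i, c, hc, he⟩ := ih (Fin.init f) e
      exact ⟨i.castSucc, c, Ideal.pow_right_mono ((span_range_last d f).ge.trans' le_sup_left) k hc, he⟩
    | last e => exact ⟨Fin.last d, monVal f e, monVal_mem f e, rfl⟩

variable {N : Type v} [AddCommGroup N] [Module A N]

theorem mem_span_smul_top_iff {ι : Type*} [Fintype ι] (g : ι → A) (x : N) :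
    x ∈ Ideal.span (Set.range g) • (⊤ : Submodule A N) ↔ ∃ w : ι → N, x = ∑ i, g i • w i := by
  constructor
  · intro hx
    refine Submodule.smul_induction_on hx (fun r hr m _ => ?_) ?_
    · obtain ⟨a, rfl⟩ := Ideal.mem_span_range_iff_exists_fun.1 hr
      exact ⟨fun i => a i • m, by rw [Finset.sum_smul]; exact Finset.sum_congr rfl fun i _ => by rw [smul_smul, mul_comm]⟩
    · rintro _ _ ⟨x, rfl⟩ ⟨y, rfl⟩
      exact ⟨x + y, by simp only [Pi.add_apply, smul_add, Finset.sum_add_distrib]⟩
  · rintro ⟨w, rfl⟩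
    exact Submodule.sum_mem _ fun i _ => Submodule.smul_mem_smul (Ideal.subset_span ⟨i, rfl⟩) trivial

/-- If relations among `g` have coefficients in `Q • N`, so do congruences modulo `(g) Q`. -/
theorem mem_of_sum_smul_mem {ι : Type*} [Fintype ι] (g : ι → A) (Q : Ideal A)
    (key : ∀ z : ι → N, (∑ i, g i • z i) = 0 → ∀ i, z i ∈ Q • (⊤ : Submodule A N)) (z : ι → N)
    (hz : (∑ i, g i • z i) ∈ (Ideal.span (Set.range g) * Q) • (⊤ : Submodule A N)) (i : ι) :
    z i ∈ Q • (⊤ : Submodule A N) := by
  rw [Submodule.mul_smul] at hz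
  obtain ⟨w, hw, hsum⟩ : ∃ w : ι → N, (∀ i, w i ∈ Q • (⊤ : Submodule A N)) ∧
      (∑ i, g i • z i) = ∑ i, g i • w i := by
    refine Submodule.smul_induction_on hz (fun r hr m hm => ?_) ?_
    · obtain ⟨a, rfl⟩ := Ideal.mem_span_range_iff_exists_fun.1 hr
      exact ⟨fun i => a i • m, fun i => Submodule.smul_mem _ _ hm,
        by rw [Finset.sum_smul]; exact Finset.sum_congr rfl fun i _ => by rw [smul_smul, mul_comm]⟩
    · rintro _ _ ⟨x, hx, rfl⟩ ⟨y, hy, rfl⟩
      exact ⟨x + y, fun i => add_mem (hx i) (hy i), by simp only [Pi.add_apply, smul_add, Finset.sum_add_distrib]⟩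
  have := key (fun i => z i - w i) (by simp only [smul_sub, Finset.sum_sub_distrib, hsum, sub_self]) i
  simpa using add_mem this (hw i)

/-- Each entry is regular modulo the earlier ones. -/
def RegSeq : ∀ d, (Fin d → A) → Prop
  | 0, _ => True
  | d + 1, f => (∀ x : N, f (Fin.last d) • x ∈ Ideal.span (Set.range (Fin.init f)) • (⊤ : Submodule A N) →
      x ∈ Ideal.span (Set.range (Fin.init f)) • (⊤ : Submodule A N)) ∧ RegSeq d (Fin.init f)

theorem regSeq_of_isWeaklyRegular : ∀ d (f : Fin d → A), RingTheory.Sequence.IsWeaklyRegular N (List.ofFn f) →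
    RegSeq (N := N) d f
  | 0, _, _ => trivial
  | d + 1, f, h => by
    rw [List.ofFn_succ', List.concat_eq_append, RingTheory.Sequence.isWeaklyRegular_append_iff,
      RingTheory.Sequence.isWeaklyRegular_singleton_iff] at h
    have e : Ideal.ofList (List.ofFn fun i => f (Fin.castSucc i)) = Ideal.span (Set.range (Fin.init f)) := by
      show Ideal.span {r | r ∈ List.ofFn (Fin.init f)} = _
      congr 1
      ext x
      simp [List.mem_ofFn]
    refine ⟨fun x hx => ?_, regSeq_of_isWeaklyRegular d (Fin.init f) h.1⟩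
    have := h.2
    rw [e] at this
    refine (Submodule.Quotient.mk_eq_zero _).1 (this ?_)
    show f (Fin.last d) • Submodule.Quotient.mk x = f (Fin.last d) • 0
    rw [smul_zero, ← Submodule.Quotient.mk_smul, Submodule.Quotient.mk_eq_zero]
    exact hx

/-- Monomials in a regular sequence are independent. -/
theorem mem_of_sum_monVal_mem : ∀ (d : ℕ) (f : Fin d → A), RegSeq (N := N) d f → ∀ (k : ℕ) (z : Mon d k → N),
    (∑ e, monVal f e • z e) ∈ Ideal.span (Set.range f) ^ (k + 1) • (⊤ : Submodule A N) →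
    ∀ e, z e ∈ Ideal.span (Set.range f) • (⊤ : Submodule A N) := by
  intro d
  -- it is enough to treat relations
  suffices key : ∀ f : Fin d → A, RegSeq (N := N) d f → ∀ (k : ℕ) (z : Mon d k → N),
      (∑ e, monVal f e • z e) = 0 → ∀ e, z e ∈ Ideal.span (Set.range f) • (⊤ : Submodule A N) by
    intro f hf k z hz e
    rw [pow_succ, ← span_monVal] at hz
    exact mem_of_sum_smul_mem _ _ (key f hf k) z hz e
  induction d with
  | zero =>
    intro f _ k z hz e
    cases e with
    | zero =>
      rw [sum_mon_zero] at hz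
      rw [show z (Mon.zero 0) = 0 from (one_smul A _).symm.trans hz]
      exact zero_mem _
  | succ d ihd =>
    intro f hf
    let Q := Ideal.span (Set.range (Fin.init f))
    let g := f (Fin.last d)
    have hQ : Q ≤ Ideal.span (Set.range f) := (span_range_last d f).ge.trans' le_sup_left
    have strong : ∀ (k : ℕ) (z : Mon d k → N), (∑ e, monVal (Fin.init f) e • z e) ∈ Q ^ (k + 1) • (⊤ : Submodule A N) →
        ∀ e, z e ∈ Q • (⊤ : Submodule A N) := by
      intro k z hz e
      rw [pow_succ, ← span_monVal d k] at hz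
      exact mem_of_sum_smul_mem _ _ (ihd (Fin.init f) hf.2 k) z hz e
    -- the last entry is regular modulo every power
    have hreg : ∀ (k : ℕ) (b : N), g • b ∈ Q ^ k • (⊤ : Submodule A N) → b ∈ Q ^ k • (⊤ : Submodule A N) := by
      intro k
      induction k with
      | zero => intro b _; rw [pow_zero, Ideal.one_eq_top, Submodule.top_smul]; trivial
      | succ k ih =>
        intro b hb
        have hb' := ih b (Submodule.smul_mono_left (Ideal.pow_le_pow_right (Nat.le_succ k)) hb)
        rw [← span_monVal d k, mem_span_smul_top_iff] at hb'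
        obtain ⟨v, rfl⟩ := hb'
        rw [Finset.smul_sum] at hb
        simp only [smul_comm g] at hb
        rw [pow_succ, Submodule.mul_smul]
        exact Submodule.sum_mem _ fun e _ =>
          Submodule.smul_mem_smul (monVal_mem _ e) (hf.1 _ (strong k _ hb e))
    intro k
    induction k with
    | zero =>
      intro z hz e
      cases e with
      | zero =>
        rw [sum_mon_zero] at hz
        rw [show z (Mon.zero (d + 1)) = 0 from (one_smul A _).symm.trans hz]
        exact zero_mem _
    | succ k ihk =>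
      intro z hz
      let B := ∑ e, monVal f e • z (Mon.last e)
      have hsplit : (∑ e, monVal (Fin.init f) e • z (Mon.init e)) + g • B = 0 := by
        rw [← hz, sum_mon_succ, Finset.smul_sum]
        exact congrArg _ (Finset.sum_congr rfl fun e _ => smul_smul _ _ _)
      have hB : B ∈ Q ^ (k + 1) • (⊤ : Submodule A N) := hreg _ _ (by
        rw [eq_neg_of_add_eq_zero_right hsplit]
        refine neg_mem ?_
        rw [← span_monVal d (k + 1)]
        exact (mem_span_smul_top_iff _ _).2 ⟨_, rfl⟩)
      rw [← span_monVal d (k + 1), mem_span_smul_top_iff] at hB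
      obtain ⟨w, hw⟩ := hB
      have h1 : (∑ e, monVal (Fin.init f) e • (z (Mon.init e) + g • w e)) = 0 := by
        simp only [smul_add, Finset.sum_add_distrib]
        rw [← hsplit, hw, Finset.smul_sum]
        exact congrArg _ (Finset.sum_congr rfl fun e _ => smul_comm _ _ _)
      intro e
      cases e with
      | init e =>
        have h2 : z (Mon.init e) + g • w e ∈ Q • (⊤ : Submodule A N) := ihd (Fin.init f) hf.2 (k + 1) _ h1 e
        rw [show z (Mon.init e) = (z (Mon.init e) + g • w e) - g • w e from (add_sub_cancel_right _ _).symm]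
        exact sub_mem (Submodule.smul_mono_left hQ h2)
          (Submodule.smul_mem_smul (Ideal.subset_span ⟨Fin.last d, rfl⟩) trivial)
      | last e =>
        refine mem_of_sum_smul_mem (fun e : Mon (d + 1) k => monVal f e) _ ihk (fun e => z (Mon.last e)) ?_ e
        rw [span_monVal, ← pow_succ]
        show B ∈ _
        rw [hw]
        exact Submodule.sum_mem _ fun e' _ => Submodule.smul_mem_smul (Ideal.pow_right_mono hQ _ (monVal_mem _ e')) trivial

section Flat

variable {R : Type u} [CommRing R] [IsLocalRing R] [IsNoetherianRing R]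

/-- A minimal spanning set of an ideal modulo `m` times it. -/
theorem exists_independent_gens (P : Ideal R) (S : Finset R) (hS : P = Ideal.span (S : Set R)) :
    ∃ B : Finset R, B ⊆ S ∧ P = Ideal.span (B : Set R) ∧
      ∀ a : {b // b ∈ B} → R, (∑ b, a b * b.1) ∈ IsLocalRing.maximalIdeal R * P → ∀ b, a b ∈ IsLocalRing.maximalIdeal R := by
  classical
  obtain ⟨B, hB, hmin⟩ := (S.powerset.filter (fun B : Finset R => P = Ideal.span (B : Set R))).exists_min_image Finset.card
    ⟨S, Finset.mem_filter.2 ⟨Finset.mem_powerset.2 subset_rfl, hS⟩⟩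
  rw [Finset.mem_filter, Finset.mem_powerset] at hB
  refine ⟨B, hB.1, hB.2, fun a ha b₀ => by_contra fun hb₀ => ?_⟩
  let B' := B.erase b₀.1
  have hu : IsUnit (a b₀) := IsLocalRing.notMem_maximalIdeal.1 hb₀
  have hle : P ≤ Ideal.span (B' : Set R) ⊔ IsLocalRing.maximalIdeal R * P := by
    rw [hB.2, Ideal.span_le]
    intro x hx
    by_cases hxb : x = b₀.1
    · subst hxb
      have h1 : a b₀ * b₀.1 ∈ Ideal.span (B' : Set R) ⊔ IsLocalRing.maximalIdeal R * Ideal.span (B : Set R) := by
        rw [← Finset.add_sum_erase _ _ (Finset.mem_univ b₀)] at ha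
        rw [← hB.2]
        have h2 : (∑ b ∈ Finset.univ.erase b₀, a b * b.1) ∈ Ideal.span (B' : Set R) :=
          Submodule.sum_mem _ fun b hb => Ideal.mul_mem_left _ _ (Ideal.subset_span
            (Finset.mem_erase.2 ⟨fun h => (Finset.ne_of_mem_erase hb) (Subtype.ext h), b.2⟩))
        have := Submodule.sub_mem _ (Submodule.mem_sup_right (S := Ideal.span (B' : Set R)) ha) (Submodule.mem_sup_left h2)
        simpa using this
      exact (Ideal.unit_mul_mem_iff_mem _ hu).1 h1
    · exact Submodule.mem_sup_left (Ideal.subset_span (Finset.mem_erase.2 ⟨hxb, hx⟩))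
  have heq : P = Ideal.span (B' : Set R) := by
    refine le_antisymm ?_ (hB.2 ▸ Ideal.span_mono (Finset.coe_subset.2 (Finset.erase_subset _ _)))
    exact Submodule.le_of_le_smul_of_le_jacobson_bot (IsNoetherian.noetherian P)
      (IsLocalRing.maximalIdeal_le_jacobson ⊥) (by simpa [smul_eq_mul] using hle)
  exact (Finset.card_erase_lt_of_mem b₀.2).not_ge (hmin B' (Finset.mem_filter.2
    ⟨Finset.mem_powerset.2 ((Finset.erase_subset _ _).trans hB.1), heq⟩))

variable {M : Type v} [AddCommGroup M] [Module R M] [Module.Flat R M]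

/-- A minimal generating family inside a given finite generating family. -/
theorem exists_independent_family {κ : Type} [Fintype κ] (g : κ → R) :
    ∃ (r : ℕ) (s : Fin r → κ), Ideal.span (Set.range g) = Ideal.span (Set.range (g ∘ s)) ∧
      ∀ a : Fin r → R, (∑ e, a e * g (s e)) ∈ IsLocalRing.maximalIdeal R * Ideal.span (Set.range g) →
        ∀ e, a e ∈ IsLocalRing.maximalIdeal R := by
  classical
  obtain ⟨B, hBS, hP, hind⟩ := exists_independent_gens (Ideal.span (Set.range g)) (Finset.univ.image g)
    (by rw [Finset.coe_image, Finset.coe_univ, Set.image_univ])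
  choose s hs using fun b : {b // b ∈ B} => (Finset.mem_image.1 (hBS b.2))
  let σ : Fin (Fintype.card {b // b ∈ B}) ≃ {b // b ∈ B} := (Fintype.equivFin _).symm
  have hgs : ∀ e, g (s (σ e)) = (σ e).1 := fun e => (hs (σ e)).2
  refine ⟨_, fun e => s (σ e), hP.trans (congrArg Ideal.span (Set.ext fun x => ?_)), fun a ha e => ?_⟩
  · constructor
    · exact fun hx => ⟨σ.symm ⟨x, hx⟩, (hgs _).trans (by rw [σ.apply_symm_apply])⟩
    · rintro ⟨e, rfl⟩
      show g (s (σ e)) ∈ B; rw [hgs]; exact (σ e).2
  · have := hind (fun b => a (σ.symm b)) (by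
      rw [← σ.sum_comp]
      simpa only [hgs, σ.symm_apply_apply] using ha) (σ e)
    simpa using this

/-- Independent generators stay independent on a flat module. -/
theorem mem_smul_of_sum_smul_mem {P : Ideal R} {ι : Type} [Fintype ι] {c : ι → R} (_hgen : P = Ideal.span (Set.range c))
    (hind : ∀ a : ι → R, (∑ b, a b * c b) ∈ IsLocalRing.maximalIdeal R * P → ∀ b, a b ∈ IsLocalRing.maximalIdeal R)
    (z : ι → M)
    (hz : (∑ b, c b • z b) ∈ (IsLocalRing.maximalIdeal R * P) • (⊤ : Submodule R M)) (b : ι) :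
    z b ∈ IsLocalRing.maximalIdeal R • (⊤ : Submodule R M) := by
  classical
  obtain ⟨G, hG⟩ : (IsLocalRing.maximalIdeal R * P).FG := IsNoetherian.noetherian _
  have hG' : IsLocalRing.maximalIdeal R * P = Ideal.span (Set.range (fun g : {g // g ∈ G} => (g : R))) := by
    rw [Subtype.range_coe_subtype]
    exact hG.symm
  rw [hG', mem_span_smul_top_iff] at hz
  obtain ⟨w, hw⟩ := hz
  let f : ι ⊕ {g // g ∈ G} → R := Sum.elim c (fun g => g.1)
  let x : ι ⊕ {g // g ∈ G} → M := Sum.elim z (fun g => - w g)
  have h0 : ∑ i, f i • x i = 0 := by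
    rw [Fintype.sum_sum_type]
    simp only [f, x, Sum.elim_inl, Sum.elim_inr, smul_neg, Finset.sum_neg_distrib]
    rw [hw, add_neg_cancel]
  obtain ⟨k, a, y, hxy, hfa⟩ := Module.Flat.isTrivialRelation_of_sum_smul_eq_zero h0
  have ha : ∀ j, a (Sum.inl b) j ∈ IsLocalRing.maximalIdeal R := fun j => by
    have h1 := hfa j
    rw [Fintype.sum_sum_type] at h1
    simp only [f, Sum.elim_inl, Sum.elim_inr] at h1
    refine hind (fun b => a (Sum.inl b) j) ?_ b
    rw [Finset.sum_congr rfl (fun b _ => mul_comm (a (Sum.inl b) j) (c b)), eq_neg_of_add_eq_zero_left h1, hG']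
    exact neg_mem (Submodule.sum_mem _ fun g _ => Ideal.mul_mem_right _ _ (Ideal.subset_span ⟨g, rfl⟩))
  rw [show z b = x (Sum.inl b) from rfl, hxy]
  exact Submodule.sum_mem _ fun j _ => Submodule.smul_mem_smul (ha j) trivial

end Flat

end Groth.Agent.AlgzLib
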