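import Groth.Agent.AlgzLib.GradedStalk
import Groth.Agent.AlgzLib.Monomials
import Groth.Agent.SphLib.FormalCompareStalk

/-!
# Good monomials from regular sequences and from flatness
-/

set_option autoImplicit false
set_option backward.isDefEq.respectTransparency false
set_option linter.style.haveILetI false
set_option linter.unusedSectionVars false

universe u v

open CategoryTheory CategoryTheory.Limits AlgebraicGeometry Opposite TopologicalSpace

namespace Groth.Agent.AlgzLib

section Over

variable {A : Type u} [CommRing A] {X : Scheme.{u}} [X.Over (Spec (CommRingCat.of A))] {I : Ideal A}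

/-- A point where the ideal is not the unit ideal lies over the zero locus. -/
theorem mem_zeroLocus_of_ne_top {y : X} (hy : Algz.stalkIdeal I y ≠ ⊤) :
    (X ↘ Spec (CommRingCat.of A)).base y ∈ PrimeSpectrum.zeroLocus (R := A) I := by
  by_contra h
  obtain ⟨a, ha, hu⟩ := SphLib.FormalCompare.exists_isUnit_toStalk I (x := y) h
  exact hy (Ideal.eq_top_of_isUnit_mem _ (Ideal.mem_map_of_mem _ ha) hu)

end Over

/-- Membership in `(g) N` does not depend on the ring acting. -/
theorem mem_smul_top_congr {R S N : Type*} [CommRing R] [CommRing S] [AddCommGroup N] [Module R N] [Module S N]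
    (φ : R →+* S) (hφ : ∀ (r : R) (x : N), r • x = φ r • x) {Q : Ideal R} (hQ : Q.FG) (x : N) :
    x ∈ Q.map φ • (⊤ : Submodule S N) ↔ x ∈ Q • (⊤ : Submodule R N) := by
  obtain ⟨s, rfl⟩ := hQ
  have e : Submodule.span R (s : Set R) = Ideal.span (Set.range fun i : {i // i ∈ s} => i.1) := by
    rw [Subtype.range_coe_subtype]; rfl
  change x ∈ Ideal.map φ (Submodule.span R (s : Set R)) • _ ↔ x ∈ Ideal.span (s : Set R) • _
  rw [show Ideal.span (s : Set R) = _ from e]
  rw [show Submodule.span R (s : Set R) = _ from e, Ideal.map_span, ← Set.range_comp, mem_span_smul_top_iff, mem_span_smul_top_iff]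
  exact exists_congr fun w => by simp only [hφ, Function.comp_apply]

variable {A : Type u} [CommRing A] {X : Scheme.{u}} [X.Over (Spec (CommRingCat.of A))] {I : Ideal A}
  {G : ℕᵒᵖ ⥤ X.Modules}

theorem goodMonomials_regular {d : ℕ} (f : Fin d → A) (n : ℕ)
    (h : ∀ y : X, Algz.stalkIdeal I y ≠ ⊤ →
      Algz.stalkIdeal I y = Ideal.span (Set.range fun j => Algz.toStalk A X y (f j)) ∧
      RingTheory.Sequence.IsWeaklyRegular (Algz.hatStalk I G y)
        (List.ofFn fun j => algebraMap (X.presheaf.stalk y) (Algz.hatRing I y) (Algz.toStalk A X y (f j)))) :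
    GoodMonomials (I := I) G (fun e : Mon d (n + 1) => monVal f e) n := by
  intro y hy
  obtain ⟨hJ, hreg⟩ := h y hy
  let φ := algebraMap (X.presheaf.stalk y) (Algz.hatRing I y)
  have hφ : ∀ (r : X.presheaf.stalk y) (x : Algz.hatStalk I G y), r • x = φ r • x :=
    fun r x => (algebraMap_smul _ r x).symm
  have hval : ∀ e : Mon d (n + 1), Algz.toStalk A X y (monVal f e) = monVal (fun j => Algz.toStalk A X y (f j)) e :=
    fun e => map_monVal _ f e
  have hfg : ∀ k, (Algz.stalkIdeal I y ^ k).FG := fun k => by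
    rw [hJ, ← span_monVal]
    exact Submodule.fg_span (Set.finite_range _)
  refine ⟨?_, fun z hz e => ?_⟩
  · rw [hJ, ← span_monVal]
    simp only [hval, le_refl]
  · let g := fun j => φ (Algz.toStalk A X y (f j))
    have hmap : ∀ k, (Algz.stalkIdeal I y ^ k).map φ = Ideal.span (Set.range g) ^ k := fun k => by
      rw [Ideal.map_pow]
      refine congrArg (· ^ k) ((congrArg (Ideal.map φ) hJ).trans ?_)
      rw [Ideal.map_span, ← Set.range_comp]
      rfl
    have h1 : (∑ e, monVal g e • z e) ∈
        Ideal.span (Set.range g) ^ (n + 1 + 1) • (⊤ : Submodule (Algz.hatRing I y) (Algz.hatStalk I G y)) := by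
      rw [← hmap, mem_smul_top_congr φ hφ (hfg _)]
      have e1 : (∑ e, monVal g e • z e) = ∑ e, Algz.toStalk A X y (monVal f e) • z e :=
        Finset.sum_congr rfl fun e _ => by rw [hφ, hval, map_monVal]
      rw [e1]
      exact hz
    have h2 := mem_of_sum_monVal_mem d g (regSeq_of_isWeaklyRegular d g hreg) (n + 1) z h1 e
    rw [← pow_one (Ideal.span (Set.range g)), ← hmap, mem_smul_top_congr φ hφ (hfg _)] at h2
    exact (congrArg (fun K => K • (⊤ : Submodule (X.presheaf.stalk y) (Algz.hatStalk I G y))) (pow_one (Algz.stalkIdeal I y))).le h2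

variable {R : Type v} [CommRing R]

theorem goodMonomials_flat [IsLocalRing R] [IsNoetherianRing R] (φ : R →+* A)
    (hI : I = Ideal.map φ (IsLocalRing.maximalIdeal R)) (n : ℕ) {E : Type} [Fintype E] (b : E → R)
    (hgen : IsLocalRing.maximalIdeal R ^ (n + 1) = Ideal.span (Set.range b))
    (hind : ∀ a : E → R, (∑ e, a e * b e) ∈ IsLocalRing.maximalIdeal R * IsLocalRing.maximalIdeal R ^ (n + 1) →
      ∀ e, a e ∈ IsLocalRing.maximalIdeal R)
    (h : ∀ y : X, Algz.stalkIdeal I y ≠ ⊤ →
      letI : Module R (Algz.hatStalk I G y) := Module.compHom (Algz.hatStalk I G y)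
        ((algebraMap (X.presheaf.stalk y) (Algz.hatRing I y)).comp ((Algz.toStalk A X y).comp φ))
      Module.Flat R (Algz.hatStalk I G y)) :
    GoodMonomials (I := I) G (fun e => φ (b e)) n := by
  intro y hy
  let ψ : R →+* X.presheaf.stalk y := (Algz.toStalk A X y).comp φ
  have hJ : ∀ k, Algz.stalkIdeal I y ^ k = (IsLocalRing.maximalIdeal R ^ k).map ψ := fun k => by
    rw [Ideal.map_pow, Algz.stalkIdeal, hI, Ideal.map_map]
  refine ⟨?_, fun z hz e => ?_⟩
  · rw [hJ, hgen, Ideal.map_span, ← Set.range_comp]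
    exact le_refl _
  · letI : Module R (Algz.hatStalk I G y) := Module.compHom (Algz.hatStalk I G y)
      ((algebraMap (X.presheaf.stalk y) (Algz.hatRing I y)).comp ((Algz.toStalk A X y).comp φ))
    haveI : Module.Flat R (Algz.hatStalk I G y) := h y hy
    have hψ : ∀ (r : R) (x : Algz.hatStalk I G y), r • x = ψ r • x := fun r x =>
      algebraMap_smul (Algz.hatRing I y) (ψ r) x
    rw [hJ, mem_smul_top_congr ψ hψ (IsNoetherian.noetherian _), pow_succ'] at hz
    have hz' : (∑ e, b e • z e) ∈ (IsLocalRing.maximalIdeal R * IsLocalRing.maximalIdeal R ^ (n + 1)) •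
        (⊤ : Submodule R (Algz.hatStalk I G y)) := by
      convert hz using 1
      exact Finset.sum_congr rfl fun e _ => hψ _ _
    have hJ1 : (IsLocalRing.maximalIdeal R).map ψ = Algz.stalkIdeal I y := by
      rw [Algz.stalkIdeal, hI, Ideal.map_map]
    exact (congrArg (fun K => K • (⊤ : Submodule (X.presheaf.stalk y) (Algz.hatStalk I G y))) hJ1).le
      ((mem_smul_top_congr ψ hψ (IsNoetherian.noetherian _) _).2 (mem_smul_of_sum_smul_mem hgen hind z hz' e))

end Groth.Agent.AlgzLib
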