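import Groth.Agent.S9534
import Groth.Agent.Coherent.Serre.FormalKernels
import Groth.Agent.Coherent.SecBridge
import Groth.Agent.Coherent.AffinenessApps
import Groth.Agent.Formal2Lib.PuncturedFinite
import Groth.Agent.Coherent.FormalFunctions

/-!
# Canonical extension from a split graded module with finite cohomology
-/

set_option autoImplicit false
set_option backward.isDefEq.respectTransparency false
set_option linter.unusedSectionVars false
set_option linter.style.haveILetI false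

universe u

open CategoryTheory CategoryTheory.Limits AlgebraicGeometry Opposite TopologicalSpace
open Groth.Agent.Coherent

namespace Groth.Agent.AlgzLib

section Alg

variable {A : Type u} [CommRing A] [IsNoetherianRing A] {X : ARSys.PS (ModuleCat.{u} A)}
  {r : ℕ} (a : Fin r → A) (μ : Fin r → ∀ n, ↑(X.obj (op n)) →ₗ[A] ↑(X.obj (op (n + 1))))

/-- A system whose graded pieces are generated in degree zero has the adic topology on its limit. -/
theorem exists_ker_le_pow {I : Ideal A} (ha : ∀ i, a i ∈ I)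
    (hμ : ∀ i n (x : X.obj (op (n + 1))), μ i n (ARSys.tr X (Nat.le_succ n) x) = a i • x)
    (hμK : ∀ i n (z : X.obj (op (n + 1))), ARSys.tr X (Nat.le_succ n) z = 0 →
      ARSys.tr X (Nat.le_succ (n + 1)) (μ i (n + 1) z) = 0)
    (hcomm : ∀ i j n (z : X.obj (op (n + 1))), ARSys.tr X (Nat.le_succ n) z = 0 →
      μ i (n + 2) (μ j (n + 1) z) = μ j (n + 2) (μ i (n + 1) z))
    (hfin : ∀ n, Module.Finite A (X.obj (op n)))
    (hgen : ∀ n (z : X.obj (op (n + 2))), ARSys.tr X (Nat.le_succ (n + 1)) z = 0 →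
      ∃ y : Fin r → X.obj (op (n + 1)), (∀ i, ARSys.tr X (Nat.le_succ n) (y i) = 0) ∧ z = ∑ i, μ i (n + 1) (y i))
    (k : ℕ) : ∃ n : ℕ, LinearMap.ker (limit.π X (op n)).hom ≤ I ^ k • (⊤ : Submodule A ↑(limit X)) := by
  classical
  let t : ∀ n, ↑(X.obj (op (n + 1))) →ₗ[A] ↑(X.obj (op n)) := fun n => (X.map (homOfLE (Nat.le_succ n)).op).hom
  let p : ∀ n, ↑(limit X) →ₗ[A] ↑(X.obj (op n)) := fun n => (limit.π X (op n)).hom
  have hp : ∀ n x, t n (p (n + 1) x) = p n x := fun n x => S9534.tr_π X (Nat.le_succ n) x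
  have hdown : ∀ i j (h : i ≤ j) x, p j x = 0 → p i x = 0 := fun i j h x hx =>
    (S9534.tr_π X h x).symm.trans ((congrArg _ hx).trans (map_zero _))
  let T : Fin r → ∀ n, LinearMap.ker (t n) →ₗ[A] LinearMap.ker (t (n + 1)) := fun i n =>
    ((μ i (n + 1)).comp (LinearMap.ker (t n)).subtype).codRestrict _ fun z =>
      LinearMap.mem_ker.2 (hμK i n z (LinearMap.mem_ker.1 z.2))
  have hT : EG (H := fun n => ↥(LinearMap.ker (t n))) T := ⟨0, fun n _ z => by
    obtain ⟨y, hy, he⟩ := hgen n z.1 (LinearMap.mem_ker.1 z.2)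
    refine ⟨fun i => ⟨y i, LinearMap.mem_ker.2 (hy i)⟩, Subtype.ext ?_⟩
    rw [he, Submodule.coe_sum]
    rfl⟩
  let q : ∀ n, LinearMap.ker (p n) →ₗ[A] LinearMap.ker (t n) := fun n =>
    ((p (n + 1)).comp (LinearMap.ker (p n)).subtype).codRestrict _ fun x =>
      LinearMap.mem_ker.2 ((hp n x).trans (LinearMap.mem_ker.1 x.2))
  have hmu : ∀ i n x, μ i n (p n x) = a i • p (n + 1) x := fun i n x => by
    rw [← hp n x]; exact hμ i n _
  let K : ℕ → Type u := fun n => LinearMap.range (q n)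
  have hstab : ∀ i n (z : LinearMap.range (q n)), T i n z.1 ∈ LinearMap.range (q (n + 1)) := by
    rintro i n ⟨_, x, rfl⟩
    refine ⟨⟨a i • x.1, LinearMap.mem_ker.2 ?_⟩, Subtype.ext ?_⟩
    · show p (n + 1) (a i • x.1) = 0
      rw [map_smul, ← hmu i n x.1, LinearMap.mem_ker.1 x.2, map_zero]
    · show p (n + 1 + 1) (a i • x.1) = μ i (n + 1) (p (n + 1) x.1)
      rw [map_smul, hmu]
  let S : Fin r → ∀ n, LinearMap.range (q n) →ₗ[A] LinearMap.range (q (n + 1)) := fun i n =>
    ((T i n).comp (LinearMap.range (q n)).subtype).codRestrict _ (hstab i n)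
  obtain ⟨n₀, hn₀⟩ : EG (H := fun n => ↥(LinearMap.range (q n))) S :=
    hT.sub (fun n => by
        haveI := hfin (n + 1)
        exact Module.Finite.of_injective (LinearMap.ker (t n)).subtype Subtype.val_injective)
      (fun i j n z => Subtype.ext (hcomm i j n z.1 (LinearMap.mem_ker.1 z.2)))
      (fun n => (LinearMap.range (q n)).subtype) (fun n => Subtype.val_injective) (fun i n z => rfl)
  -- one step
  have hone : ∀ n, n₀ ≤ n → ∀ x, p (n + 1) x = 0 → ∃ y : Fin r → ↑(limit X),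
      (∀ i, p n (y i) = 0) ∧ p (n + 2) (x - ∑ i, a i • y i) = 0 := by
    intro n hn x hx
    obtain ⟨y, hy⟩ := hn₀ n hn ⟨q (n + 1) ⟨x, LinearMap.mem_ker.2 hx⟩, ⟨_, rfl⟩⟩
    choose w hw using fun i => (y i).2
    refine ⟨fun i => (w i).1, fun i => LinearMap.mem_ker.1 (w i).2, ?_⟩
    have h1 : p (n + 2) x = ∑ i, μ i (n + 1) ((y i).1 : X.obj (op (n + 1))) := by
      have := congrArg (fun z : LinearMap.range (q (n + 1)) => ((z.1 : LinearMap.ker (t (n + 1))).1 : X.obj (op (n + 1 + 1)))) hy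
      simp only [Submodule.coe_sum] at this
      exact this
    rw [map_sub, h1, map_sum, sub_eq_zero]
    refine Finset.sum_congr rfl fun i _ => ?_
    rw [map_smul, ← hw i, ← hmu]
    rfl
  have hstep : ∀ n, n₀ ≤ n → ∀ x, p (n + 1) x = 0 → ∃ Y : Fin r → ↑(limit X),
      (∀ i, p n (Y i) = 0) ∧ x = ∑ i, a i • Y i := by
    intro n hn x hx
    let nxt : ∀ s, {z : ↑(limit X) // p (n + 1 + s) z = 0} →
        {z : ↑(limit X) // p (n + 1 + (s + 1)) z = 0} × (Fin r → ↑(limit X)) := fun s z =>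
      let h := hone (n + s) (hn.trans (Nat.le_add_right n s)) z.1 (by
        rw [show n + s + 1 = n + 1 + s by omega]; exact z.2)
      (⟨z.1 - ∑ i, a i • h.choose i, by
        rw [show n + 1 + (s + 1) = n + s + 2 by omega]; exact h.choose_spec.2⟩, h.choose)
    let xs : ∀ s, {z : ↑(limit X) // p (n + 1 + s) z = 0} := fun s =>
      Nat.rec (⟨x, hx⟩ : {z : ↑(limit X) // p (n + 1 + 0) z = 0}) (fun s z => (nxt s z).1) s
    let ys : ℕ → Fin r → ↑(limit X) := fun s => (nxt s (xs s)).2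
    have hys : ∀ s i, p (n + s) (ys s i) = 0 := fun s i =>
      (hone (n + s) (hn.trans (Nat.le_add_right n s)) (xs s).1 (by
        rw [show n + s + 1 = n + 1 + s by omega]; exact (xs s).2)).choose_spec.1 i
    have hsum : ∀ s, x = (xs s).1 + ∑ j ∈ Finset.range s, ∑ i, a i • ys j i := fun s => by
      induction s with
      | zero => simp [xs]
      | succ s ih =>
        refine ih.trans ?_
        rw [Finset.sum_range_succ]
        show _ = ((xs s).1 - ∑ i, a i • ys s i) + _
        abel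
    have hcompat : ∀ i j, t j (p (j + 1) (∑ s ∈ Finset.range (j + 1 + 1), ys s i)) =
        p j (∑ s ∈ Finset.range (j + 1), ys s i) := fun i j => by
      rw [hp, Finset.sum_range_succ _ (j + 1), map_add, hdown j (n + (j + 1)) (by omega) _ (hys (j + 1) i), add_zero]
    choose Y hY using fun i => exists_limit_elt X (fun j => p j (∑ s ∈ Finset.range (j + 1), ys s i)) (hcompat i)
    refine ⟨Y, fun i => ?_, ?_⟩
    · refine (hY i n).trans ?_
      rw [map_sum]
      exact Finset.sum_eq_zero fun s _ => hdown n (n + s) (Nat.le_add_right n s) _ (hys s i)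
    · refine Concrete.limit_ext _ _ _ fun ⟨j⟩ => ?_
      show p j x = p j _
      conv_lhs => rw [hsum (j + 1)]
      rw [map_add, hdown j (n + 1 + (j + 1)) (by omega) _ (xs (j + 1)).2, zero_add, Finset.sum_comm, map_sum, map_sum]
      refine Finset.sum_congr rfl fun i _ => ?_
      rw [map_smul, ← Finset.smul_sum, map_smul]
      exact congrArg (a i • ·) (hY i j).symm
  refine ⟨n₀ + k, ?_⟩
  induction k with
  | zero => rw [pow_zero, Ideal.one_eq_top, Submodule.top_smul]; exact le_top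
  | succ k ih =>
    intro x hx
    obtain ⟨Y, hY, rfl⟩ := hstep (n₀ + k) (Nat.le_add_right _ _) x (LinearMap.mem_ker.1 hx)
    refine Submodule.sum_mem _ fun i _ => ?_
    rw [pow_succ', ← smul_eq_mul, Submodule.smul_assoc]
    exact Submodule.smul_mem_smul (ha i) (ih (LinearMap.mem_ker.2 (hY i)))

end Alg

section Geom

variable {A : Type u} [CommRing A] {X : Scheme.{u}} [X.Over (Spec (CommRingCat.of A))]
  {I : Ideal A} {G : ℕᵒᵖ ⥤ X.Modules} (hG : Formal.IsCohFormal I G)

local notation "φ" => baseHom A X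

/-- The transition from degree `n` to degree `j`. -/
noncomputable abbrev trLong (G : ℕᵒᵖ ⥤ X.Modules) {j n : ℕ} (h : j ≤ n) : G.obj (op n) ⟶ G.obj (op j) :=
  G.map (homOfLE h).op

theorem trLong_trans {i j n : ℕ} (h : i ≤ j) (h' : j ≤ n) :
    trLong G h' ≫ trLong G h = trLong G (h.trans h') := by
  simp only [trLong, ← G.map_comp]
  rfl

theorem trLong_self (n : ℕ) : trLong G (le_refl n) = 𝟙 _ := G.map_id _

include hG

theorem epi_trLong {j n : ℕ} (h : j ≤ n) : Epi (trLong G h) := by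
  induction n, h using Nat.le_induction with
  | base => rw [trLong_self]; infer_instance
  | succ n h ih =>
    rw [← trLong_trans h (Nat.le_succ n)]
    haveI := Serre.epi_tr hG n
    exact epi_comp' (Serre.epi_tr hG n) ih

theorem exists_desc {n : ℕ} {Z : X.Modules} (u : G.obj (op (n + 1)) ⟶ Z)
    (hu : ∀ c ∈ I ^ (n + 1), Formal.smulMod A _ c ≫ u = 0) : ∃ d, Serre.tr G n ≫ d = u := by
  have hex := Serre.exact_smulFamily_tr hG n
  have := Serre.epi_tr hG n
  exact ⟨hex.desc u (Sigma.hom_ext _ _ fun c => by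
    rw [comp_zero, ← Category.assoc, Serre.ι_smulFamily, hu c c.2]), hex.g_desc u _⟩

theorem exists_desc_long {j n : ℕ} (h : j ≤ n) {Z : X.Modules} (u : G.obj (op n) ⟶ Z)
    (hu : ∀ c ∈ I ^ (j + 1), Formal.smulMod A _ c ≫ u = 0) : ∃ d, trLong G h ≫ d = u := by
  induction n, h using Nat.le_induction generalizing Z with
  | base => exact ⟨u, by rw [trLong_self, Category.id_comp]⟩
  | succ n h ih =>
    obtain ⟨d, hd⟩ := exists_desc hG u fun c hc => hu c (Ideal.pow_le_pow_right (Nat.succ_le_succ h) hc)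
    obtain ⟨d', hd'⟩ := ih d fun c hc => by
      have := Serre.epi_tr hG n
      rw [← cancel_epi (Serre.tr G n), comp_zero, ← Category.assoc, ← Serre.smulMod_natural, Category.assoc, hd]
      exact hu c hc
    exact ⟨d', by rw [← trLong_trans h (Nat.le_succ n), Category.assoc, hd', hd]⟩

theorem exists_mu (n : ℕ) {a : A} (ha : a ∈ I) :
    ∃ m : G.obj (op n) ⟶ G.obj (op (n + 1)), Serre.tr G n ≫ m = Formal.smulMod A _ a :=
  exists_desc hG _ fun c hc => by
    rw [← smulMod_mul]
    exact hG.2.1 (n + 1) _ (by rw [pow_succ']; exact Ideal.mul_mem_mul ha hc)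

/-- Multiplication by an element of the ideal, raising the degree. -/
noncomputable def mu (n : ℕ) {a : A} (ha : a ∈ I) : G.obj (op n) ⟶ G.obj (op (n + 1)) :=
  (exists_mu hG n ha).choose

theorem tr_mu (n : ℕ) {a : A} (ha : a ∈ I) : Serre.tr G n ≫ mu hG n ha = Formal.smulMod A _ a :=
  (exists_mu hG n ha).choose_spec

theorem mu_eq_psi (n : ℕ) {a : A} (ha : a ∈ I) : mu hG (n + 1) ha = Serre.psi hG n ha := by
  have := Serre.epi_tr hG (n + 1)
  rw [← cancel_epi (Serre.tr G (n + 1)), tr_mu, Serre.tr_psi]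

theorem mu_tr (n : ℕ) {a : A} (ha : a ∈ I) :
    mu hG (n + 1) ha ≫ Serre.tr G (n + 1) = Serre.tr G n ≫ mu hG n ha := by
  rw [mu_eq_psi, Serre.psi_tr, tr_mu]

theorem mu_tr_zero {a : A} (ha : a ∈ I) : mu hG 0 ha ≫ Serre.tr G 0 = 0 := by
  have := Serre.epi_tr hG 0
  rw [← cancel_epi (Serre.tr G 0), comp_zero, ← Category.assoc, tr_mu, Serre.smulMod_natural,
    hG.2.1 0 a (by rwa [zero_add, pow_one]), comp_zero]

theorem mu_trLong_zero (n : ℕ) {a : A} (ha : a ∈ I) : mu hG n ha ≫ trLong G (Nat.zero_le (n + 1)) = 0 := by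
  induction n with
  | zero => exact mu_tr_zero hG ha
  | succ n ih =>
    rw [← trLong_trans (Nat.zero_le (n + 1)) (Nat.le_succ (n + 1)), ← Category.assoc]
    exact (congrArg (· ≫ _) (mu_tr hG n ha)).trans (by rw [Category.assoc, ih, comp_zero])

theorem mu_trLong {j n : ℕ} (h : j ≤ n) {a : A} (ha : a ∈ I) :
    mu hG n ha ≫ trLong G (Nat.succ_le_succ h) = trLong G h ≫ mu hG j ha := by
  induction n, h using Nat.le_induction with
  | base => rw [trLong_self, trLong_self, Category.id_comp, Category.comp_id]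
  | succ n h ih =>
    rw [← trLong_trans (Nat.succ_le_succ h) (Nat.le_succ (n + 1)), ← trLong_trans h (Nat.le_succ n),
      ← Category.assoc]
    exact (congrArg (· ≫ _) (mu_tr hG n ha)).trans (by rw [Category.assoc, ih, Category.assoc])

theorem exists_lift (n : ℕ) {c : A} (hc : c ∈ I ^ (n + 1)) :
    ∃ L : G.obj (op 0) ⟶ kernel (Serre.tr G n), trLong G (Nat.zero_le (n + 1)) ≫ L = Serre.kerElem hG n hc :=
  exists_desc_long hG _ _ fun b hb => by
    rw [← cancel_mono (kernel.ι _), Category.assoc, Serre.kerElem_ι, zero_comp, ← smulMod_mul]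
    exact hG.2.1 (n + 1) _ (by
      rw [pow_succ]; exact Ideal.mul_mem_mul hc (by rwa [zero_add, pow_one] at hb))

/-- Multiplication by an element of a power of the ideal, from the bottom degree into a graded piece. -/
noncomputable def lift (n : ℕ) {c : A} (hc : c ∈ I ^ (n + 1)) : G.obj (op 0) ⟶ kernel (Serre.tr G n) :=
  (exists_lift hG n hc).choose

theorem trLong_lift (n : ℕ) {c : A} (hc : c ∈ I ^ (n + 1)) :
    trLong G (Nat.zero_le (n + 1)) ≫ lift hG n hc = Serre.kerElem hG n hc :=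
  (exists_lift hG n hc).choose_spec

theorem lift_kerOp (n : ℕ) {a c c' : A} (ha : a ∈ I) (hc : c ∈ I ^ (n + 1)) (hc' : c' ∈ I ^ (n + 2)) (h : c' = a * c) :
    lift hG n hc ≫ Serre.kerOp hG ha n = lift hG (n + 1) hc' := by
  haveI := epi_trLong hG (Nat.zero_le (n + 2))
  rw [← cancel_epi (trLong G (Nat.zero_le (n + 2))), trLong_lift,
    ← trLong_trans (Nat.zero_le (n + 1)) (Nat.le_succ (n + 1)), Category.assoc,
    ← Category.assoc (trLong G (Nat.zero_le (n + 1))), trLong_lift, ← cancel_mono (kernel.ι _)]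
  simp only [Category.assoc, Serre.kerOp_ι]
  rw [Serre.kerElem_ι, ← Category.assoc (Serre.kerElem hG n hc), Serre.kerElem_ι, ← Category.assoc,
    show trLong G (Nat.le_succ (n + 1)) = Serre.tr G (n + 1) from rfl, ← Serre.smulMod_natural, Category.assoc,
    Serre.tr_psi, ← smulMod_mul, h]

end Geom

section Split

variable {A : Type u} [CommRing A] {X : Scheme.{u}} [X.Over (Spec (CommRingCat.of A))]
  {I : Ideal A} {G : ℕᵒᵖ ⥤ X.Modules}

local notation "φ" => baseHom A X

/-- The graded pieces split off the bottom term along monomials in the given elements. -/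
def Split (hG : Formal.IsCohFormal I G) {r : ℕ} (a : Fin r → A) (ha : ∀ i, a i ∈ I) : Prop :=
  ∀ n, ∃ (E : Type) (_ : Fintype E) (c : E → A) (hc : ∀ e, c e ∈ I ^ (n + 1))
    (π : E → (kernel (Serre.tr G n) ⟶ G.obj (op 0))),
      (∑ e, π e ≫ lift hG n (hc e) = 𝟙 _) ∧
      ∀ (m : ℕ), n = m + 1 → ∀ e, ∃ (i : Fin r) (c' : A), c' ∈ I ^ (m + 1) ∧ c e = a i * c'

theorem postA_sum' {M N : X.Modules} (q : ℕ) {ι : Type} (s : Finset ι) (g : ι → (M ⟶ N))
    (x : HA φ M (⊤ : X.Opens) q) :
    postA φ (∑ j ∈ s, g j) ⊤ q x = ∑ j ∈ s, postA φ (g j) ⊤ q x := by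
  classical
  induction s using Finset.induction_on with
  | empty => rw [Finset.sum_empty, Finset.sum_empty]; exact postA_zero φ q x
  | insert e s he ih =>
    rw [Finset.sum_insert he, Finset.sum_insert he, ← ih]
    exact postHM_add (g e) _ q ⊤ x

theorem trSeq_shortExact (hG : Formal.IsCohFormal I G) (n : ℕ) :
    (ShortComplex.mk (kernel.ι (Serre.tr G n)) (Serre.tr G n) (kernel.condition _)).ShortExact :=
  haveI := Serre.epi_tr hG n
  { exact := ShortComplex.exact_kernel (Serre.tr G n) }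

variable [IsNoetherianRing A] (hG : Formal.IsCohFormal I G) {r : ℕ} {a : Fin r → A} {ha : ∀ i, a i ∈ I}
  (hsplit : Split hG a ha)

include hsplit

theorem kernel_gen (p n : ℕ) (x : HA φ (kernel (Serre.tr G (n + 1))) (⊤ : X.Opens) p) :
    ∃ y : Fin r → HA φ (kernel (Serre.tr G n)) (⊤ : X.Opens) p,
      x = ∑ i, postA φ (Serre.kerOp hG (ha i) n) ⊤ p (y i) := by
  classical
  obtain ⟨E, _, c, hc, π, hid, hstep⟩ := hsplit (n + 1)
  choose idx c' hc' he using fun e => hstep n rfl e
  refine ⟨fun i => ∑ e with idx e = i, postA φ (π e ≫ lift hG n (hc' e)) ⊤ p x, ?_⟩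
  conv_lhs => rw [← postA_id φ p x, ← hid, postA_sum']
  simp only [map_sum, ← postA_comp, Category.assoc]
  rw [← Finset.sum_fiberwise (s := (Finset.univ : Finset E)) (g := idx)]
  refine Finset.sum_congr rfl fun i _ => Finset.sum_congr rfl fun e hei => ?_
  obtain rfl := (Finset.mem_filter.1 hei).2
  rw [lift_kerOp hG n (ha (idx e)) (hc' e) (hc e) (he e)]

theorem finite_kernel (p : ℕ) [Module.Finite A (HA φ (G.obj (op 0)) (⊤ : X.Opens) p)] (n : ℕ) :
    Module.Finite A (HA φ (kernel (Serre.tr G n)) (⊤ : X.Opens) p) := by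
  classical
  obtain ⟨E, _, c, hc, π, hid, -⟩ := hsplit n
  refine Module.Finite.of_surjective
    (LinearMap.lsum A (fun _ : E => HA φ (G.obj (op 0)) (⊤ : X.Opens) p) A fun e => postA φ (lift hG n (hc e)) ⊤ p)
    fun x => ⟨fun e => postA φ (π e) ⊤ p x, ?_⟩
  rw [LinearMap.lsum_apply, LinearMap.sum_apply]
  conv_rhs => rw [← postA_id φ p x, ← hid, postA_sum']
  refine Finset.sum_congr rfl fun e _ => ?_
  rw [postA_comp]
  rfl

theorem finite_H0 [Module.Finite A (HA φ (G.obj (op 0)) (⊤ : X.Opens) 0)] (n : ℕ) :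
    Module.Finite A (HA φ (G.obj (op n)) (⊤ : X.Opens) 0) := by
  induction n with
  | zero => infer_instance
  | succ n ih =>
    have := finite_kernel hG hsplit 0 n
    exact finite_of_exact (exact_postA φ (trSeq_shortExact hG n) ⊤ 0)

/-- Sections of the tower satisfy the Mittag-Leffler condition. -/
theorem range_stable [Module.Finite A (HA φ (G.obj (op 0)) (⊤ : X.Opens) 1)] :
    ∃ n₀, ∀ j n (h : j + n₀ + 1 ≤ n) (x : HA φ (G.obj (op n)) (⊤ : X.Opens) 0),
      ∃ x' : HA φ (G.obj (op (n + 1))) (⊤ : X.Opens) 0,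
        postA φ (trLong G (show j ≤ n + 1 by omega)) ⊤ 0 x' = postA φ (trLong G (show j ≤ n by omega)) ⊤ 0 x := by
  let S : ℕ → ShortComplex X.Modules := fun n =>
    ShortComplex.mk (kernel.ι (Serre.tr G n)) (Serre.tr G n) (kernel.condition _)
  have hS : ∀ n, (S n).ShortExact := fun n => trSeq_shortExact hG n
  let δ : ∀ n, HA φ (G.obj (op n)) (⊤ : X.Opens) 0 →ₗ[A] HA φ (kernel (Serre.tr G n)) (⊤ : X.Opens) 1 :=
    fun n => deltaA φ (hS n) ⊤ 0
  have hnat : ∀ i n x, postA φ (Serre.kerOp hG (ha i) n) ⊤ 1 (δ n x) = δ (n + 1) (postA φ (mu hG n (ha i)) ⊤ 0 x) := by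
    intro i n x
    have w1 : Serre.kerOp hG (ha i) n ≫ kernel.ι (Serre.tr G (n + 1)) =
        kernel.ι (Serre.tr G n) ≫ mu hG (n + 1) (ha i) := by rw [Serre.kerOp_ι, mu_eq_psi]
    let τ : S n ⟶ S (n + 1) :=
      { τ₁ := Serre.kerOp hG (ha i) n
        τ₂ := mu hG (n + 1) (ha i)
        τ₃ := mu hG n (ha i)
        comm₁₂ := w1
        comm₂₃ := mu_tr hG n (ha i) }
    exact deltaA_natural φ (hS n) (hS (n + 1)) τ 0 x
  let T : Fin r → ∀ n, HA φ (kernel (Serre.tr G n)) (⊤ : X.Opens) 1 →ₗ[A]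
      HA φ (kernel (Serre.tr G (n + 1))) (⊤ : X.Opens) 1 := fun i n => postA φ (Serre.kerOp hG (ha i) n) ⊤ 1
  have hstab : ∀ i n (z : LinearMap.range (δ n)), T i n z.1 ∈ LinearMap.range (δ (n + 1)) := by
    rintro i n ⟨_, x, rfl⟩
    exact ⟨_, (hnat i n x).symm⟩
  let R : Fin r → ∀ n, LinearMap.range (δ n) →ₗ[A] LinearMap.range (δ (n + 1)) := fun i n =>
    ((T i n).comp (LinearMap.range (δ n)).subtype).codRestrict _ (hstab i n)
  have hT : EG (H := fun n => HA φ (kernel (Serre.tr G n)) (⊤ : X.Opens) 1) T :=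
    ⟨0, fun n _ z => kernel_gen hG hsplit 1 n z⟩
  obtain ⟨n₀, hn₀⟩ : EG (H := fun n => ↥(LinearMap.range (δ n))) R :=
    hT.sub (fun n => finite_kernel hG hsplit 1 n)
      (fun i j n z => by
        show postA φ _ ⊤ 1 (postA φ _ ⊤ 1 z) = postA φ _ ⊤ 1 (postA φ _ ⊤ 1 z)
        rw [← postA_comp, ← postA_comp, Serre.kerOp_comm])
      (fun n => (LinearMap.range (δ n)).subtype) (fun n => Subtype.val_injective) (fun i n z => rfl)
  have hlift : ∀ n, n₀ ≤ n → ∀ x, ∃ w, δ n w = δ n x ∧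
      ∀ j (h : j ≤ n), j + n₀ + 1 ≤ n → postA φ (trLong G h) ⊤ 0 w = 0 := by
    intro n hn
    induction n, hn using Nat.le_induction with
    | base => exact fun x => ⟨x, rfl, fun j h h' => absurd h' (by omega)⟩
    | succ n hn ih =>
      intro x
      obtain ⟨y, hy⟩ := hn₀ n hn ⟨δ (n + 1) x, x, rfl⟩
      choose v hv using fun i => (y i).2
      choose w hw hwz using fun i => ih (v i)
      refine ⟨∑ i, postA φ (mu hG n (ha i)) ⊤ 0 (w i), ?_, fun j h h' => ?_⟩
      · have h1 := congrArg Subtype.val hy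
        simp only [Submodule.coe_sum] at h1
        rw [h1, map_sum]
        refine Finset.sum_congr rfl fun i _ => ?_
        rw [← hnat, hw, hv]
        rfl
      · rw [map_sum]
        refine Finset.sum_eq_zero fun i _ => ?_
        rw [← postA_comp]
        rcases j with _ | j
        · rw [mu_trLong_zero hG n (ha i)]
          exact postA_zero φ 0 _
        · rw [mu_trLong hG (show j ≤ n by omega) (ha i), postA_comp, hwz i j (by omega) (by omega), map_zero]
  refine ⟨n₀, fun j n h x => ?_⟩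
  obtain ⟨w, hw, hwz⟩ := hlift n (by omega) x
  obtain ⟨x', hx'⟩ := ((exact_postA_deltaA φ (hS n) ⊤ 0) (x - w)).1 (by
    show δ n (x - w) = 0
    rw [map_sub, hw, sub_self])
  refine ⟨x', ?_⟩
  rw [← trLong_trans (show j ≤ n by omega) (Nat.le_succ n), postA_comp]
  refine (congrArg _ hx').trans ?_
  rw [map_sub, hwz j _ h, sub_zero]

end Split

theorem imageSubobject_eq_of_range {A : Type u} [CommRing A] {P Q T : ModuleCat.{u} A} {f : P ⟶ T} {g : Q ⟶ T}
    (h : LinearMap.range f.hom = LinearMap.range g.hom) : imageSubobject f = imageSubobject g := by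
  have key : ∀ {P : ModuleCat.{u} A} (f : P ⟶ T),
      LinearMap.range (imageSubobject f).arrow.hom = LinearMap.range f.hom := fun f => by
    conv_rhs => rw [← imageSubobject_arrow_comp f]
    rw [ModuleCat.hom_comp, LinearMap.range_comp_of_range_eq_top _
      (LinearMap.range_eq_top.2 ((ModuleCat.epi_iff_surjective _).1 inferInstance))]
  refine (ModuleCat.subobjectModule T).injective ?_
  show LinearMap.range (imageSubobject f).arrow.hom = LinearMap.range (imageSubobject g).arrow.hom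
  rw [key f, key g, h]

section Punctured

open Formal2Lib.Punct

variable {A : Type u} [CommRing A] [IsNoetherianRing A] {I 𝔞 : Ideal A}

/-- Finite low degree cohomology of the bottom term and a split graded module give a canonical extension. -/
theorem canonicallyExtends_of_split
    {G : ℕᵒᵖ ⥤ (↑(LocCoh.puncturedOpen A 𝔞) : Scheme.{u}).Modules} (hI𝔞 : I ≤ 𝔞)
    (hG : Formal.IsCohFormal I G) {r : ℕ} (a : Fin r → A) (ha : ∀ i, a i ∈ I) (hsplit : Split hG a ha)
    (h0 : Module.Finite A (Coh.HH (↑(LocCoh.puncturedOpen A 𝔞) : Scheme.{u}) (G.obj (op 0)) 0))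
    (h1 : Module.Finite A (Coh.HH (↑(LocCoh.puncturedOpen A 𝔞) : Scheme.{u}) (G.obj (op 0)) 1)) :
    Algz.CanonicallyExtends A I (LocCoh.puncturedOpen A 𝔞) G := by
  classical
  let U : Scheme.{u} := US (R := CommRingCat.of A) 𝔞
  let φU := baseHom A U
  haveI : Module.Finite A (HA φU (G.obj (op 0)) (⊤ : U.Opens) 0) :=
    Module.Finite.equiv (HHA (A := A) (G.obj (op 0)) 0)
  haveI : Module.Finite A (HA φU (G.obj (op 0)) (⊤ : U.Opens) 1) :=
    Module.Finite.equiv (HHA (A := A) (G.obj (op 0)) 1)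
  let M := Algz.sectMod A (LocCoh.puncturedOpen A 𝔞) G
  let e : ∀ n, HA φU (G.obj (op n)) (⊤ : U.Opens) 0 ≃ₗ[A] M.obj (op n) := fun n =>
    (secA φU (G.obj (op n))).trans (gaEquiv (R := CommRingCat.of A) 𝔞 (G.obj (op n))).symm
  have he : ∀ {i j : ℕ} (h : i ≤ j) x, ARSys.tr M h (e j x) = e i (postA φU (trLong G h) ⊤ 0 x) := fun {i j} h x =>
    (congrArg (gaEquiv (R := CommRingCat.of A) 𝔞 (G.obj (op i))).symm (secA_natural φU (trLong G h) x)).symm
  let m : Fin r → ∀ n, M.obj (op n) →ₗ[A] M.obj (op (n + 1)) := fun i n =>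
    (e (n + 1)).toLinearMap.comp ((postA φU (mu hG n (ha i)) ⊤ 0).comp (e n).symm.toLinearMap)
  have hm : ∀ i n x, m i n (e n x) = e (n + 1) (postA φU (mu hG n (ha i)) ⊤ 0 x) := fun i n x => by
    show e (n + 1) (postA φU (mu hG n (ha i)) ⊤ 0 ((e n).symm (e n x))) = _
    rw [LinearEquiv.symm_apply_apply]
  have hfin : ∀ n, Module.Finite A (M.obj (op n)) := fun n =>
    haveI := finite_H0 hG hsplit n
    Module.Finite.equiv (e n)
  have hker : ∀ n z, ARSys.tr M (Nat.le_succ n) (e (n + 1) z) = 0 →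
      ∃ w, postA φU (kernel.ι (Serre.tr G n)) ⊤ 0 w = z := fun n z hz =>
    ((exact_postA φU (trSeq_shortExact hG n) ⊤ 0) z).1
      ((e n).injective ((he (Nat.le_succ n) z).symm.trans (hz.trans (map_zero _).symm)))
  refine S9534.result A I 𝔞 hI𝔞 G hG ?_ ?_ fun n => inferInstance
  · -- Mittag-Leffler
    obtain ⟨n₀, hn₀⟩ := range_stable hG hsplit
    intro j
    refine ⟨n₀ + 1, fun s hs => ?_⟩
    obtain ⟨d, rfl⟩ := Nat.exists_eq_add_of_le hs
    clear hs
    apply imageSubobject_eq_of_range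
    induction d with
    | zero => rfl
    | succ d ih =>
      rw [← ih]
      refine le_antisymm ?_ ?_
      · rintro _ ⟨x, rfl⟩
        exact ⟨ARSys.tr M (show j + (n₀ + 1 + d) ≤ j + (n₀ + 1 + (d + 1)) by omega) x, S9534.tr_tr M _ _ x⟩
      · rintro _ ⟨x, rfl⟩
        obtain ⟨x, rfl⟩ := (e _).surjective x
        obtain ⟨x', hx'⟩ := hn₀ j (j + (n₀ + 1 + d)) (by omega) x
        refine ⟨e _ x', ?_⟩
        exact (he _ x').trans ((congrArg (e j) hx').trans (he _ x).symm)
  · -- topology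
    refine exists_ker_le_pow a m ha ?_ ?_ ?_ hfin ?_
    · intro i n x
      obtain ⟨x, rfl⟩ := (e (n + 1)).surjective x
      rw [he, hm, ← postA_comp, ← map_smul]
      exact congrArg (e (n + 1)) ((congrArg (fun f => postA φU f ⊤ 0 x) (tr_mu hG n (ha i))).trans
        (postA_smulMod _ (a i) 0 x))
    · intro i n z hz
      obtain ⟨z, rfl⟩ := (e (n + 1)).surjective z
      obtain ⟨w, rfl⟩ := hker n z hz
      rw [hm, he, ← postA_comp, ← postA_comp]
      show e _ (postA φU (kernel.ι _ ≫ mu hG (n + 1) (ha i) ≫ Serre.tr G (n + 1)) ⊤ 0 w) = 0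
      rw [mu_tr, ← Category.assoc, kernel.condition, zero_comp]
      exact (congrArg (e _) (postA_zero φU 0 w)).trans (map_zero _)
    · intro i j n z hz
      obtain ⟨z, rfl⟩ := (e (n + 1)).surjective z
      rw [hm, hm, hm, hm, ← postA_comp, ← postA_comp, mu_eq_psi, mu_eq_psi, mu_eq_psi, mu_eq_psi, Serre.psi_comm]
    · intro n z hz
      obtain ⟨z, rfl⟩ := (e (n + 2)).surjective z
      obtain ⟨w, rfl⟩ := hker (n + 1) z hz
      obtain ⟨y, rfl⟩ := kernel_gen hG hsplit 0 n w
      refine ⟨fun i => e (n + 1) (postA φU (kernel.ι (Serre.tr G n)) ⊤ 0 (y i)), fun i => ?_, ?_⟩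
      · rw [he, ← postA_comp]
        exact (congrArg (e n) ((congrArg (fun f => postA φU f ⊤ 0 (y i)) (kernel.condition (Serre.tr G n))).trans
          (postA_zero φU 0 _))).trans (map_zero _)
      · rw [map_sum, map_sum]
        refine Finset.sum_congr rfl fun i _ => ?_
        rw [hm, ← postA_comp, ← postA_comp, Serre.kerOp_ι, mu_eq_psi]

end Punctured

end Groth.Agent.AlgzLib
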