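import Groth.Agent.AlgzLib.GradedCriterion
import Groth.Agent.ModStalk.Exact
import Groth.Agent.AdicRing.System
import Groth.Prelude.Def_Algz2

/-!
# Splitting of the graded pieces, from the completed stalks
-/

set_option autoImplicit false
set_option backward.isDefEq.respectTransparency false
set_option linter.style.haveILetI false
set_option linter.unusedSectionVars false

universe u

open CategoryTheory CategoryTheory.Limits AlgebraicGeometry Opposite TopologicalSpace

namespace Groth.Agent.AlgzLib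

attribute [local instance] Coherent.hasFiniteBiproducts

variable {A : Type u} [CommRing A] {X : Scheme.{u}} [X.Over (Spec (CommRingCat.of A))]

theorem stalk_smulMod (M : X.Modules) (c : A) (y : X) (v : M.presheaf.stalk y) :
    Algz.stalkMapₗ (Formal.smulMod A M c) y v = Algz.toStalk A X y c • v := by
  obtain ⟨V, hV, m, rfl⟩ := M.presheaf.exists_germ_eq v
  show Algz.stalkMapAb _ y _ = _
  dsimp only [Algz.stalkMapAb]
  erw [TopCat.Presheaf.stalkFunctor_map_germ_apply]
  simp only [Scheme.Modules.mapPresheaf_app]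
  refine (congrArg (M.presheaf.germ V y hV) (Coherent.smulMod_app M c V m)).trans ?_
  refine (PresheafOfModules.germ_smul (R := X.presheaf)
    (show PresheafOfModules (X.presheaf ⋙ forget₂ CommRingCat RingCat) from M.val) y V hV _ m).trans ?_
  exact congrArg (· • M.presheaf.germ V y hV m)
    (TopCat.Presheaf.germ_res_apply X.presheaf (homOfLE (le_top (a := V))) y hV _)

theorem stalk_comp {M N P : X.Modules} (f : M ⟶ N) (g : N ⟶ P) (y : X) (v : M.presheaf.stalk y) :
    Algz.stalkMapₗ (f ≫ g) y v = Algz.stalkMapₗ g y (Algz.stalkMapₗ f y v) :=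
  congrArg (fun t : (DerSch.stalkFunctor X y).obj M ⟶ (DerSch.stalkFunctor X y).obj P => t.hom v)
    ((DerSch.stalkFunctor X y).map_comp f g)

variable {I : Ideal A} {G : ℕᵒᵖ ⥤ X.Modules} (hG : Formal.IsCohFormal I G) (y : X)

local notation "J" => Algz.stalkIdeal I y

theorem toStalk_mem_pow {c : A} {n : ℕ} (hc : c ∈ I ^ n) : Algz.toStalk A X y c ∈ J ^ n := by
  rw [Algz.stalkIdeal, ← Ideal.map_pow]
  exact Ideal.mem_map_of_mem _ hc

include hG

theorem stalk_killed (n : ℕ) : J ^ (n + 1) • (⊤ : Submodule (X.presheaf.stalk y) ((G.obj (op n)).presheaf.stalk y)) = ⊥ := by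
  refine eq_bot_iff.2 (Submodule.smul_le.2 fun r hr v _ => ?_)
  rw [Algz.stalkIdeal, ← Ideal.map_pow] at hr
  rw [Submodule.mem_bot]
  induction hr using Submodule.span_induction with
  | mem r hr =>
    obtain ⟨c, hc, rfl⟩ := hr
    rw [← stalk_smulMod, hG.2.1 n c hc]
    exact congrArg (fun t : (DerSch.stalkFunctor X y).obj (G.obj (op n)) ⟶ (DerSch.stalkFunctor X y).obj (G.obj (op n)) => t.hom v)
      ((DerSch.stalkFunctor X y).map_zero _ _)
  | zero => rw [zero_smul]
  | add r s _ _ hr hs => rw [add_smul, hr, hs, add_zero]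
  | smul t r _ hr => rw [smul_eq_mul, mul_smul, hr, smul_zero]

theorem stalk_tr_surjective (n : ℕ) : Function.Surjective (Algz.stalkMapₗ (Coherent.Serre.tr G n) y) := by
  have := Coherent.Serre.epi_tr hG n
  exact (ModuleCat.epi_iff_surjective ((DerSch.stalkFunctor X y).map (Coherent.Serre.tr G n))).1 inferInstance

theorem stalk_tr_ker (n : ℕ) : LinearMap.ker (Algz.stalkMapₗ (Coherent.Serre.tr G n) y) =
    J ^ (n + 1) • (⊤ : Submodule (X.presheaf.stalk y) ((G.obj (op (n + 1))).presheaf.stalk y)) := by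
  refine le_antisymm (fun v hv => ?_) (Submodule.smul_le.2 fun r hr v _ => ?_)
  · let F := DerSch.stalkFunctor X y
    have hex := ((Coherent.Serre.exact_smulFamily_tr hG n).map_of_epi_of_preservesCokernel F
      (Coherent.Serre.epi_tr hG n) inferInstance)
    obtain ⟨w, rfl⟩ := (ShortComplex.moduleCat_exact_iff _).1 hex v hv
    let W := (J ^ (n + 1) • ⊤ : Submodule (X.presheaf.stalk y) ((G.obj (op (n + 1))).presheaf.stalk y))
    let q : F.obj (G.obj (op (n + 1))) ⟶ ModuleCat.of (X.presheaf.stalk y) (_ ⧸ W) := ModuleCat.ofHom W.mkQ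
    have h0 : F.map (Formal.smulFamily (I ^ (n + 1)) (G.obj (op (n + 1)))) ≫ q = 0 := by
      refine (isColimitOfPreserves F (coproductIsCoproduct fun _ : (I ^ (n + 1) : Ideal A) => G.obj (op (n + 1)))).hom_ext ?_
      rintro ⟨c⟩
      rw [comp_zero]
      show F.map (Sigma.ι _ c) ≫ F.map _ ≫ q = 0
      rw [← Category.assoc, ← F.map_comp, Coherent.Serre.ι_smulFamily]
      refine ModuleCat.hom_ext (LinearMap.ext fun v => ?_)
      show W.mkQ (Algz.stalkMapₗ (Formal.smulMod A _ (c : A)) y v) = 0
      rw [stalk_smulMod]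
      exact (Submodule.Quotient.mk_eq_zero W).2 (Submodule.smul_mem_smul (toStalk_mem_pow y c.2) trivial)
    exact (Submodule.Quotient.mk_eq_zero W).1 (congrArg (fun t : _ ⟶ ModuleCat.of (X.presheaf.stalk y) (_ ⧸ W) => t.hom w) h0)
  · rw [LinearMap.mem_ker, map_smul]
    exact (Submodule.eq_bot_iff _).1 (stalk_killed hG y n) _ (Submodule.smul_mem_smul hr trivial)

theorem of_bijective (n : ℕ) :
    Function.Bijective (AdicCompletion.of J ((G.obj (op n)).presheaf.stalk y)) := by
  have hk := stalk_killed hG y n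
  have : IsAdicComplete J ((G.obj (op n)).presheaf.stalk y) :=
    { haus' := fun x hx => by
        have := SModEq.zero.1 (hx (n + 1))
        rwa [hk, Submodule.mem_bot] at this
      prec' := fun f hf => ⟨f (n + 1), fun m => by
        rcases le_total m (n + 1) with h | h
        · exact hf h
        · have h2 := (hf h).symm
          rw [hk, SModEq.bot] at h2
          rw [h2]⟩ }
  exact AdicCompletion.of_bijective _ _

/-- The completed stalk is the limit of the adic system of stalks. -/
theorem exists_hatStalk_limit [IsNoetherianRing A] :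
    ∃ π : ∀ n, Algz.hatStalk I G y →ₗ[X.presheaf.stalk y] (G.obj (op n)).presheaf.stalk y,
      (∀ n z, Algz.stalkMapₗ (Coherent.Serre.tr G n) y (π (n + 1) z) = π n z) ∧
      (∀ n, Function.Surjective (π n)) ∧
      ∀ n, LinearMap.ker (π n) = J ^ (n + 1) • (⊤ : Submodule (X.presheaf.stalk y) (Algz.hatStalk I G y)) := by
  let e : ∀ n, (G.obj (op n)).presheaf.stalk y ≃ₗ[X.presheaf.stalk y]
      AdicCompletion J ((G.obj (op n)).presheaf.stalk y) := fun n =>
    LinearEquiv.ofBijective (AdicCompletion.of J _) (of_bijective hG y n)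
  have hnat : ∀ n v, Algz.hatTrans I G y n (e (n + 1) v) = e n (Algz.stalkMapₗ (Coherent.Serre.tr G n) y v) :=
    fun n v => AdicCompletion.map_of J _ v
  let π : ∀ n, Algz.hatStalk I G y →ₗ[X.presheaf.stalk y] (G.obj (op n)).presheaf.stalk y := fun n =>
    (e n).symm.toLinearMap.comp (((LinearMap.proj n).comp (Algz.hatStalk I G y).subtype).restrictScalars _)
  have hπ : ∀ n z, e n (π n z) = (z : ∀ n, AdicCompletion J ((G.obj (op n)).presheaf.stalk y)) n :=
    fun n z => (e n).apply_symm_apply _
  have hcomp : ∀ n z, Algz.stalkMapₗ (Coherent.Serre.tr G n) y (π (n + 1) z) = π n z := fun n z =>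
    (e n).injective (by rw [← hnat, hπ, hπ]; exact z.2 n)
  let S : Groth.Agent.AdicRing.AdicLimit J (fun n => ((G.obj (op n)).presheaf.stalk y : Type u)) (Algz.hatStalk I G y) :=
    { f := fun n => Algz.stalkMapₗ (Coherent.Serre.tr G n) y
      surj_f := stalk_tr_surjective hG y
      ker_f := stalk_tr_ker hG y
      π := π
      comp_π := fun n => LinearMap.ext (hcomp n)
      joint_inj := fun z hz => Subtype.ext (funext fun n => by
        have := hπ n z
        rw [hz n, map_zero] at this
        exact this.symm)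
      lift := fun v hv => ⟨⟨fun n => e n (v n), fun n => (hnat n _).trans (congrArg (e n) (hv n))⟩,
        fun n => (e n).symm_apply_apply _⟩ }
  refine ⟨π, hcomp, S.surjective_π, fun n => S.ker_of_fg ?_ n⟩
  exact Ideal.FG.map (IsNoetherian.noetherian I) _

theorem mem_long_lift {n : ℕ} {c : A} (hc : c ∈ I ^ (n + 1)) (v : (G.obj (op (n + 1))).presheaf.stalk y) :
    Algz.stalkMapₗ (kernel.ι (Coherent.Serre.tr G n)) y
        (Algz.stalkMapₗ (lift hG n hc) y (Algz.stalkMapₗ (trLong G (Nat.zero_le (n + 1))) y v)) =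
      Algz.toStalk A X y c • v := by
  rw [← stalk_comp, ← stalk_comp, ← Category.assoc, trLong_lift, Coherent.Serre.kerElem_ι, stalk_smulMod]

omit hG
variable (G)

/-- Elements generating a power of the ideal and independent on the completed stalk. -/
def GoodMonomials {E : Type} [Fintype E] (c : E → A) (n : ℕ) : Prop :=
  ∀ y : X, Algz.stalkIdeal I y ≠ ⊤ →
    Algz.stalkIdeal I y ^ (n + 1) ≤ Ideal.span (Set.range fun e => Algz.toStalk A X y (c e)) ∧
    ∀ z : E → Algz.hatStalk I G y,
      (∑ e, Algz.toStalk A X y (c e) • z e) ∈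
        Algz.stalkIdeal I y ^ (n + 2) • (⊤ : Submodule (X.presheaf.stalk y) (Algz.hatStalk I G y)) →
      ∀ e, z e ∈ Algz.stalkIdeal I y • (⊤ : Submodule (X.presheaf.stalk y) (Algz.hatStalk I G y))

variable {G}
include hG

theorem isIso_desc [IsNoetherianRing A] {E : Type} [Fintype E] (c : E → A) (n : ℕ) (hc : ∀ e, c e ∈ I ^ (n + 1))
    (h : GoodMonomials (I := I) G c n) :
    IsIso (biproduct.desc fun e : E => lift hG n (hc e)) := by
  refine ModStalk.isIso_of_stalks _ fun y => ?_
  let Φ := biproduct.desc fun e : E => lift hG n (hc e)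
  let F := DerSch.stalkFunctor X y
  by_cases hJ : Algz.stalkIdeal I y = ⊤
  · have hz : ∀ m, Subsingleton ↑(F.obj (G.obj (op m))) := fun m => subsingleton_of_forall_eq 0 fun v =>
      (Submodule.eq_bot_iff _).1 (stalk_killed hG y m) v (by
        rw [hJ, Ideal.top_pow, Submodule.top_smul]; trivial)
    have h1 : IsZero (F.obj (kernel (Coherent.Serre.tr G n))) := by
      have := hz (n + 1)
      have : Mono (F.map (kernel.ι (Coherent.Serre.tr G n))) := inferInstance
      have := ((ModuleCat.mono_iff_injective _).1 this).subsingleton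
      exact ModuleCat.isZero_of_subsingleton _
    have h2 : IsZero (F.obj (⨁ fun _ : E => G.obj (op 0))) := by
      rw [IsZero.iff_id_eq_zero, ← F.map_id, ← biproduct.total, F.map_sum]
      refine Finset.sum_eq_zero fun e _ => ?_
      have := hz 0
      rw [F.map_comp, (ModuleCat.isZero_of_subsingleton (F.obj (G.obj (op 0)))).eq_of_tgt (F.map (biproduct.π (fun _ : E => G.obj (op 0)) e)) 0,
        zero_comp]
    exact ⟨⟨0, h2.eq_of_src _ _, h1.eq_of_src _ _⟩⟩
  obtain ⟨π, hπ, hsurj, hker⟩ := exists_hatStalk_limit hG y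
  obtain ⟨hgen, hind⟩ := h y hJ
  have hlong : ∀ j m (hjm : j ≤ m) z, Algz.stalkMapₗ (trLong G hjm) y (π m z) = π j z := by
    intro j m hjm z
    induction m, hjm using Nat.le_induction with
    | base =>
      rw [trLong_self]
      exact congrArg (fun t : F.obj (G.obj (op j)) ⟶ F.obj (G.obj (op j)) => t.hom (π j z)) (F.map_id _)
    | succ m hjm ih =>
      rw [← trLong_trans hjm (Nat.le_succ m), stalk_comp]
      exact (congrArg _ (hπ m z)).trans ih
  have hdec : ∀ v, Algz.stalkMapₗ Φ y v = ∑ e, Algz.stalkMapₗ (lift hG n (hc e)) y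
      (Algz.stalkMapₗ (biproduct.π (fun _ : E => G.obj (op 0)) e) y v) := by
    intro v
    have e1 : F.map Φ = ∑ e, F.map (biproduct.π (fun _ : E => G.obj (op 0)) e) ≫ F.map (lift hG n (hc e)) := by
      conv_lhs => rw [← Category.id_comp Φ, ← biproduct.total]
      rw [Preadditive.sum_comp, F.map_sum]
      refine Finset.sum_congr rfl fun e _ => ?_
      rw [Category.assoc, biproduct.ι_desc, F.map_comp]
    exact (congrArg (fun t : F.obj _ ⟶ F.obj _ => t.hom v) e1).trans (by
      rw [ModuleCat.hom_sum, LinearMap.sum_apply]; rfl)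
  have hιinj : Function.Injective (Algz.stalkMapₗ (kernel.ι (Coherent.Serre.tr G n)) y) :=
    (ModuleCat.mono_iff_injective (F.map (kernel.ι (Coherent.Serre.tr G n)))).1 inferInstance
  rw [ConcreteCategory.isIso_iff_bijective]
  refine ⟨(injective_iff_map_eq_zero (F.map Φ).hom).2 fun v hv => ?_, fun w => ?_⟩
  · choose z hz using fun e => hsurj 0 (Algz.stalkMapₗ (biproduct.π (fun _ : E => G.obj (op 0)) e) y v)
    have h0 := congrArg (Algz.stalkMapₗ (kernel.ι (Coherent.Serre.tr G n)) y) ((hdec v).symm.trans hv)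
    rw [map_zero, map_sum] at h0
    have h1 : π (n + 1) (∑ e, Algz.toStalk A X y (c e) • z e) = 0 := by
      rw [map_sum, ← h0]
      refine Finset.sum_congr rfl fun e _ => ?_
      rw [map_smul, ← mem_long_lift hG y (hc e), hlong, hz]
    rw [← LinearMap.mem_ker, hker] at h1
    have h2 : ∀ e, π 0 (z e) = 0 := fun e => by
      rw [← LinearMap.mem_ker, hker, zero_add, pow_one]
      exact hind z h1 e
    have e1 : (𝟙 (F.obj (⨁ fun _ : E => G.obj (op 0)))) =
        ∑ e, F.map (biproduct.π (fun _ : E => G.obj (op 0)) e) ≫ F.map (biproduct.ι (fun _ : E => G.obj (op 0)) e) := by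
      rw [← F.map_id, ← biproduct.total, F.map_sum]
      exact Finset.sum_congr rfl fun e _ => F.map_comp _ _
    refine (congrArg (fun t : F.obj _ ⟶ F.obj _ => t.hom v) e1).trans ?_
    rw [ModuleCat.hom_sum, LinearMap.sum_apply]
    refine Finset.sum_eq_zero fun e _ => ?_
    show Algz.stalkMapₗ (biproduct.ι _ e) y (Algz.stalkMapₗ (biproduct.π _ e) y v) = 0
    rw [← hz e, h2 e, map_zero]
  · have hw : Algz.stalkMapₗ (kernel.ι (Coherent.Serre.tr G n)) y w ∈
        Ideal.span (Set.range fun e => Algz.toStalk A X y (c e)) •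
          (⊤ : Submodule (X.presheaf.stalk y) ((G.obj (op (n + 1))).presheaf.stalk y)) := by
      refine Submodule.smul_mono_left hgen ((stalk_tr_ker hG y n).le (LinearMap.mem_ker.2 ?_))
      rw [← stalk_comp, kernel.condition]
      exact congrArg (fun t : F.obj (kernel (Coherent.Serre.tr G n)) ⟶ F.obj (G.obj (op n)) => t.hom w) (F.map_zero _ _)
    obtain ⟨x, hx⟩ : ∃ x : E → (G.obj (op (n + 1))).presheaf.stalk y,
        Algz.stalkMapₗ (kernel.ι (Coherent.Serre.tr G n)) y w = ∑ e, Algz.toStalk A X y (c e) • x e := by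
      refine Submodule.smul_induction_on hw (fun r hr m _ => ?_) ?_
      · obtain ⟨a, rfl⟩ := Ideal.mem_span_range_iff_exists_fun.1 hr
        exact ⟨fun e => a e • m, by rw [Finset.sum_smul]; exact Finset.sum_congr rfl fun e _ => by rw [smul_smul, mul_comm]⟩
      · rintro _ _ ⟨x, rfl⟩ ⟨x', rfl⟩
        exact ⟨x + x', by simp only [Pi.add_apply, smul_add, Finset.sum_add_distrib]⟩
    refine ⟨∑ e, Algz.stalkMapₗ (biproduct.ι (fun _ : E => G.obj (op 0)) e) y
      (Algz.stalkMapₗ (trLong G (Nat.zero_le (n + 1))) y (x e)), hιinj ?_⟩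
    show Algz.stalkMapₗ _ y (Algz.stalkMapₗ Φ y _) = _
    rw [hx, map_sum, map_sum]
    refine Finset.sum_congr rfl fun e _ => ?_
    rw [← mem_long_lift hG y (hc e), ← stalk_comp (biproduct.ι _ e) Φ, biproduct.ι_desc]

/-- The splitting, from good monomials in every degree. -/
theorem split_of_good [IsNoetherianRing A] {r : ℕ} {a : Fin r → A} (ha : ∀ i, a i ∈ I)
    (h : ∀ n, ∃ (E : Type) (_ : Fintype E) (c : E → A), (∀ e, c e ∈ I ^ (n + 1)) ∧ GoodMonomials (I := I) G c n ∧
      ∀ (m : ℕ), n = m + 1 → ∀ e, ∃ (i : Fin r) (c' : A), c' ∈ I ^ (m + 1) ∧ c e = a i * c') :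
    Split hG a ha := by
  intro n
  obtain ⟨E, fE, c, hc, hgood, hstep⟩ := h n
  haveI := isIso_desc hG c n hc hgood
  refine ⟨E, fE, c, hc, fun e => inv (biproduct.desc fun e : E => lift hG n (hc e)) ≫ biproduct.π _ e, ?_, hstep⟩
  refine Eq.trans ?_ (IsIso.inv_hom_id (biproduct.desc fun e : E => lift hG n (hc e)))
  rw [show (∑ e, (inv (biproduct.desc fun e : E => lift hG n (hc e)) ≫ biproduct.π _ e) ≫ lift hG n (hc e)) =
    inv (biproduct.desc fun e : E => lift hG n (hc e)) ≫ ∑ e, biproduct.π _ e ≫ lift hG n (hc e) from by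
      rw [Preadditive.comp_sum]; exact Finset.sum_congr rfl fun e _ => Category.assoc _ _ _]
  exact congrArg (_ ≫ ·) (biproduct.desc_eq).symm

end Groth.Agent.AlgzLib
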