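import Groth.Prelude.Def_ARSys
import Groth.Agent.AdicRing.System
import Mathlib.Algebra.Category.ModuleCat.Abelian
import Mathlib.Algebra.Category.ModuleCat.Limits
import Mathlib.CategoryTheory.Limits.Shapes.ConcreteCategory

/-!
Mittag-Leffler systems of modules: the stable images are the images of the limit.
-/

universe u

open CategoryTheory CategoryTheory.Limits Opposite

namespace Groth.Agent.AlgzLib

variable {R : Type u} [CommRing R] {X : ARSys.PS (ModuleCat.{u} R)}

theorem range_le_of_imageSubobject_le {P Q T : ModuleCat.{u} R} (f : P ⟶ T) (g : Q ⟶ T)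
    (h : imageSubobject f ≤ imageSubobject g) : LinearMap.range f.hom ≤ LinearMap.range g.hom := by
  let q : T ⟶ ModuleCat.of R (↥T ⧸ LinearMap.range g.hom) := ModuleCat.ofHom (LinearMap.range g.hom).mkQ
  have hg : g ≫ q = 0 := ModuleCat.hom_ext (LinearMap.range_mkQ_comp _)
  have ha : (imageSubobject g).arrow ≫ q = 0 := by
    refine (cancel_epi (factorThruImageSubobject g)).1 ?_
    rw [imageSubobject_arrow_comp_assoc, hg, comp_zero]
  have hf : f ≫ q = 0 := by
    rw [← imageSubobject_arrow_comp f, ← Subobject.ofLE_arrow h, Category.assoc, Category.assoc, ha,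
      comp_zero, comp_zero]
  rintro _ ⟨x, rfl⟩
  exact (Submodule.Quotient.mk_eq_zero _).1 (congrArg (fun φ : P ⟶ _ => φ.hom x) hf)

/-- A compatible family is an element of the limit. -/
theorem exists_limit_elt (X : ARSys.PS (ModuleCat.{u} R)) (y : ∀ k, X.obj (op k))
    (hy : ∀ k, ARSys.tr X (Nat.le_succ k) (y (k + 1)) = y k) :
    ∃ z : ↑(limit X), ∀ k, limit.π X (op k) z = y k := by
  let F := forget (ModuleCat.{u} R)
  have hl := isLimitOfPreserves F (limit.isLimit X)
  have hy' : ∀ (i j : ℕ) (h : i ≤ j), X.map (homOfLE h).op (y j) = y i := by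
    intro i j h
    induction j, h using Nat.le_induction with
    | base => rw [show (homOfLE (le_refl i)).op = 𝟙 (op i) from rfl, X.map_id]; rfl
    | succ j h ih =>
      rw [show (homOfLE (h.trans (Nat.le_succ j))).op =
        (homOfLE (Nat.le_succ j)).op ≫ (homOfLE h).op from rfl, X.map_comp]
      exact (congrArg (X.map (homOfLE h).op) (hy j)).trans ih
  let s : (X ⋙ F).sections := ⟨fun j => y j.unop, fun {j i} t => hy' i.unop j.unop (leOfHom t.unop)⟩
  exact ⟨(Types.isLimitEquivSections hl).symm s, fun n => Types.isLimitEquivSections_symm_apply hl s (op n)⟩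

/-- In a Mittag-Leffler system, elements coming from far enough come from the limit. -/
theorem exists_range_limit_π_eq (hX : ARSys.IsML X) (n : ℕ) :
    ∃ (s : ℕ) (h : n ≤ s), LinearMap.range (ARSys.tr X h).hom ≤ LinearMap.range (limit.π X (op n)).hom := by
  choose r hr using hX
  let e : ℕ → ℕ := fun k => k + r k
  have hst : ∀ (k s : ℕ) (hs : e k ≤ s),
      LinearMap.range (ARSys.tr X (Nat.le_add_right k (r k))).hom ≤
        LinearMap.range (ARSys.tr X ((Nat.le_add_right k (r k)).trans hs)).hom := fun k s hs => by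
    obtain ⟨d, rfl⟩ := Nat.exists_eq_add_of_le ((Nat.le_add_right k (r k)).trans hs)
    exact range_le_of_imageSubobject_le _ _ (hr k d (Nat.le_of_add_le_add_left hs)).ge
  let B : ℕ → Type u := fun k => LinearMap.range (ARSys.tr X (Nat.le_add_right k (r k))).hom
  have htr : ∀ {i j l : ℕ} (h : i ≤ j) (h' : j ≤ l) (x : X.obj (op l)),
      ARSys.tr X h (ARSys.tr X h' x) = ARSys.tr X (h.trans h') x := fun {i j l} h h' x => by
    show (X.map _ ≫ X.map _) x = _
    rw [← X.map_comp]
    rfl
  let g : ∀ k, B (k + 1) → B k := fun k x => ⟨ARSys.tr X (Nat.le_succ k) x.1, by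
    obtain ⟨z, hz⟩ := x.2
    obtain ⟨w, hw⟩ := hst (k + 1) (max (e (k + 1)) (e k)) (le_max_left _ _) ⟨z, rfl⟩
    refine ⟨ARSys.tr X (le_max_right (e (k + 1)) (e k)) w, ?_⟩
    rw [← hz, ← hw]
    exact (htr _ _ w).trans (htr _ _ w).symm⟩
  have hg : ∀ k, Function.Surjective (g k) := fun k x => by
    obtain ⟨z, hz⟩ := x.2
    obtain ⟨w, hw⟩ := hst k (max (e (k + 1)) (e k)) (le_max_right _ _) ⟨z, rfl⟩
    refine ⟨⟨ARSys.tr X (Nat.le_add_right (k + 1) (r (k + 1))) (ARSys.tr X (le_max_left (e (k + 1)) (e k)) w),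
      ⟨_, rfl⟩⟩, Subtype.ext ?_⟩
    rw [← hz, ← hw]
    exact ((congrArg (ARSys.tr X (Nat.le_succ k)) (htr _ _ w)).trans (htr _ _ w)).trans rfl
  refine ⟨e n, Nat.le_add_right n (r n), ?_⟩
  rintro _ ⟨x, rfl⟩
  obtain ⟨y, hy, hyn⟩ := AdicRing.exists_compatible n g hg ⟨_, ⟨x, rfl⟩⟩
  obtain ⟨z, hz⟩ := exists_limit_elt X (fun k => (y k).1) (fun k => congrArg Subtype.val (hy k))
  exact ⟨z, (hz n).trans (congrArg Subtype.val hyn)⟩

end Groth.Agent.AlgzLib
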