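import Groth.Prelude.Def_Algz
import Groth.Prelude.Def_Formal2
import Groth.Agent.Coherent.Existence.AffineLimit
import Groth.Agent.Props12.TildeFin

/-!
Adic systems of finite modules give coherent formal modules on the spectrum.
-/

universe u

open CategoryTheory CategoryTheory.Limits AlgebraicGeometry Opposite
open Groth.Agent.Coherent Groth.Agent.Coherent.Existence

set_option backward.isDefEq.respectTransparency false

namespace Groth.Agent.AlgzLib

variable {A : Type u} [CommRing A]

/-- The spectrum over itself. -/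
noncomputable abbrev selfOver (A : Type u) [CommRing A] :
    (Spec (CommRingCat.of A)).Over (Spec (CommRingCat.of A)) := ⟨𝟙 _⟩

attribute [local instance] selfOver

/-- Multiplication on sections over the spectrum is the module structure of the sections. -/
theorem smulMod_app_top (P : (Spec (CommRingCat.of A)).Modules) (c : A) :
    (moduleSpecΓFunctor (R := CommRingCat.of A)).map (Formal.smulMod A P c) =
      ModuleCat.ofHom (c • (LinearMap.id : _ →ₗ[A] ((moduleSpecΓFunctor (R := CommRingCat.of A)).obj P))) := by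
  ext x
  show (Formal.smulMod A P c).app ⊤ x = _
  rw [smulMod_app]
  have e : baseHom A (Spec (CommRingCat.of A)) c = (Scheme.ΓSpecIso (CommRingCat.of A)).inv c := by
    simp [baseHom, Coh.toGlobal]
    rfl
  rw [e]
  rfl

theorem map_zero_app (P P' : (Spec (CommRingCat.of A)).Modules) :
    (moduleSpecΓFunctor (R := CommRingCat.of A)).map (0 : P ⟶ P') = 0 := by
  ext x
  rfl

/-- Maps out of a tilde module are detected on global sections. -/
theorem tilde_hom_ext {M : ModuleCat.{u} A} {P : (Spec (CommRingCat.of A)).Modules}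
    {f g : tilde (R := CommRingCat.of A) M ⟶ P}
    (h : (tilde.adjunction (R := CommRingCat.of A)).homEquiv M P f =
      (tilde.adjunction (R := CommRingCat.of A)).homEquiv M P g) : f = g :=
  ((tilde.adjunction (R := CommRingCat.of A)).homEquiv M P).injective h

theorem killedBy_tilde {J : Ideal A} (M : ModuleCat.{u} A) (h : J • (⊤ : Submodule A M) = ⊥) :
    Formal.KilledBy J (tilde (R := CommRingCat.of A) M) := fun c hc => by
  refine tilde_hom_ext ?_
  rw [Adjunction.homEquiv_unit, Adjunction.homEquiv_unit]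
  refine (congrArg (_ ≫ ·) (smulMod_app_top (tilde (R := CommRingCat.of A) M) c)).trans ?_
  ext x
  show c • ((tilde.adjunction (R := CommRingCat.of A)).unit.app M) x = _
  rw [← map_smul]
  have : c • x = 0 := (Submodule.eq_bot_iff _).1 h _ (Submodule.smul_mem_smul hc trivial)
  rw [this, map_zero]
  exact (congrArg (fun f => f.hom x) ((congrArg (_ ≫ ·) (map_zero_app (tilde (R := CommRingCat.of A) M)
    (tilde (R := CommRingCat.of A) M))).trans comp_zero)).symm

theorem isCoh_tilde [IsNoetherianRing A] (M : ModuleCat.{u} A) [Module.Finite A M] :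
    Coh.IsCoh (tilde (R := CommRingCat.of A) M) :=
  ⟨Props12.isQCoh_tilde _, (Props12.isFT_tilde_iff (R := CommRingCat.of A) M).2 inferInstance⟩

theorem exists_fac_of_surjective {M N P : ModuleCat.{u} A} (q : M ⟶ N) (ψ : M ⟶ P)
    (hq : Function.Surjective q) (h : LinearMap.ker q.hom ≤ LinearMap.ker ψ.hom) : ∃ ψ' : N ⟶ P, q ≫ ψ' = ψ :=
  ⟨ModuleCat.ofHom (((LinearMap.ker q.hom).liftQ ψ.hom h).comp
    (LinearMap.quotKerEquivOfSurjective q.hom hq).symm.toLinearMap), by
    ext x
    have : (LinearMap.quotKerEquivOfSurjective q.hom hq).symm (q.hom x) = Submodule.Quotient.mk x :=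
      (LinearEquiv.symm_apply_eq _).2 rfl
    show (LinearMap.ker q.hom).liftQ ψ.hom h ((LinearMap.quotKerEquivOfSurjective q.hom hq).symm (q.hom x)) = _
    rw [this, Submodule.liftQ_apply]⟩

/-- An adic system of finite modules gives a coherent formal module. -/
theorem isCohFormal_tildeSys [IsNoetherianRing A] (I : Ideal A) (Q : ℕᵒᵖ ⥤ ModuleCat.{u} A)
    (hfin : ∀ n, Module.Finite A (Q.obj (op n)))
    (hsurj : ∀ n, Function.Surjective (Q.map (homOfLE (Nat.le_succ n)).op))
    (hker : ∀ n, LinearMap.ker (Q.map (homOfLE (Nat.le_succ n)).op).hom =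
      I ^ (n + 1) • (⊤ : Submodule A (Q.obj (op (n + 1)))))
    (hkill : ∀ n, I ^ (n + 1) • (⊤ : Submodule A (Q.obj (op n))) = ⊥) :
    Formal.IsCohFormal I (Q ⋙ tilde.functor (CommRingCat.of A)) := by
  refine ⟨fun n => have := hfin n; isCoh_tilde _, fun n => killedBy_tilde _ (hkill n), fun n => ?_⟩
  let q := Q.map (homOfLE (Nat.le_succ n)).op
  let adj := tilde.adjunction (R := CommRingCat.of A)
  let Γf : (Spec (CommRingCat.of A)).Modules ⥤ ModuleCat.{u} A := moduleSpecΓFunctor (R := CommRingCat.of A)
  let T := tilde (R := CommRingCat.of A) (Q.obj (op (n + 1)))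
  have h : Formal.smulFamily (I ^ (n + 1)) T ≫ tilde.map (R := CommRingCat.of A) q = 0 := by
    refine Sigma.hom_ext _ _ fun c => ?_
    rw [comp_zero, ← Category.assoc]
    simp only [Formal.smulFamily, Sigma.ι_desc]
    rw [Serre.smulMod_natural, killedBy_tilde _ (hkill n) c c.2, comp_zero]
  refine ⟨h, ?_⟩
  let π := Formal.modPowπ I (n + 1) T
  let ψ : Q.obj (op (n + 1)) ⟶ Γf.obj (Formal.modPow I (n + 1) T) := adj.homEquiv _ _ π
  have hk : ∀ c ∈ I ^ (n + 1), ∀ x, c • ψ.hom x = 0 := fun c hc x => by
    have h1 := congrArg (fun f => (Γf.map f).hom (adj.unit.app (Q.obj (op (n + 1))) x))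
      ((Serre.smulMod_natural π c).symm.trans (smulMod_modPowπ I T hc))
    have h0 : Γf.map (0 : T ⟶ Formal.modPow I (n + 1) T) = 0 := map_zero_app _ _
    rw [Functor.map_comp, h0] at h1
    have h2 : Γf.map (Formal.smulMod A (Formal.modPow I (n + 1) T) c) = _ := smulMod_app_top _ c
    rw [h2] at h1
    exact h1
  have hker' : LinearMap.ker q.hom ≤ LinearMap.ker ψ.hom := by
    rw [hker n]
    exact Submodule.smul_le.2 fun c hc x _ => by rw [LinearMap.mem_ker, map_smul, hk c hc x]
  obtain ⟨ψ', hψ'⟩ := exists_fac_of_surjective q ψ (hsurj n) hker'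
  let e := (adj.homEquiv _ _).symm ψ'
  have he : tilde.map (R := CommRingCat.of A) q ≫ e = π := by
    refine ((adj.homEquiv_naturality_left_symm q ψ').symm).trans ?_
    rw [hψ']
    exact (adj.homEquiv _ _).symm_apply_apply π
  haveI : Epi q := (ModuleCat.epi_iff_surjective q).2 (hsurj n)
  haveI := adj.leftAdjoint_preservesColimits
  haveI : Epi (tilde.map (R := CommRingCat.of A) q) :=
    (inferInstance : Epi ((tilde.functor (CommRingCat.of A)).map q))
  refine ⟨e, ?_, ?_⟩
  · refine (cancel_epi π).1 ?_
    refine Eq.trans ?_ (Category.comp_id _).symm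
    refine (Category.assoc _ _ _).symm.trans ?_
    show (cokernel.π _ ≫ cokernel.desc _ _ h) ≫ e = π
    rw [cokernel.π_desc]
    exact he
  · refine (cancel_epi (tilde.map (R := CommRingCat.of A) q)).1 ?_
    refine Eq.trans ?_ (Category.comp_id _).symm
    refine (Category.assoc _ _ _).symm.trans ?_
    rw [he]
    exact cokernel.π_desc _ _ h

end Groth.Agent.AlgzLib
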